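import Cfsg.Agent.Lib.ClassSize.TwoReg.Basic
import Mathlib.FieldTheory.Finite.Basic

/-!
# Two class sizes of elements of order prime to `p`: there is at most one bad prime

A prime is bad if no centraliser contains a Sylow subgroup.  An element of `q`-power order outside
`T` normalising it has `q`-th power central, and two bad primes give a contradiction.
-/

set_option autoImplicit false
set_option linter.style.haveILetI false

namespace CfsgLib.ClassSize.TwoReg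

variable {G : Type*} [Group G] {p : ℕ}

/-- The element normalises `T p x`. -/
def Norm (p : ℕ) (x g : G) : Prop := ∀ v ∈ T p x, g * v * g⁻¹ ∈ T p x

theorem Norm.mul {x g h : G} (hg : Norm p x g) (hh : Norm p x h) : Norm p x (g * h) := fun v hv => by
  have := hg _ (hh v hv)
  rwa [mul_inv_rev, show g * h * v * (h⁻¹ * g⁻¹) = g * (h * v * h⁻¹) * g⁻¹ by group]

theorem Norm.pow {x g : G} (hg : Norm p x g) : ∀ n : ℕ, Norm p x (g ^ n)
  | 0 => fun v hv => by simpa using hv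
  | n + 1 => by rw [pow_succ]; exact (Norm.pow hg n).mul hg

/-- No centraliser contains a Sylow `q`-subgroup. -/
def Bad (G : Type*) [Group G] (p q : ℕ) : Prop :=
  Pi G p q ∧ ∀ x : G, Reg p x → x ∉ Subgroup.center G →
    (Nat.card (cz x)).factorization q < (Nat.card G).factorization q

theorem conj_pow_eq {g u c : G} (hc : c ∈ Subgroup.center G) (he : g * u * g⁻¹ = c * u) :
    ∀ n : ℕ, g ^ n * u * (g ^ n)⁻¹ = c ^ n * u
  | 0 => by simp
  | n + 1 => by
    calc g ^ (n + 1) * u * (g ^ (n + 1))⁻¹ = g ^ n * (g * u * g⁻¹) * (g ^ n)⁻¹ := by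
          rw [pow_succ]; group
      _ = c * (g ^ n * u * (g ^ n)⁻¹) := by
          rw [he, ← mul_assoc, ← (mem_center.mp hc (g ^ n)).eq]; group
      _ = c ^ (n + 1) * u := by rw [conj_pow_eq hc he n, ← mul_assoc, ← pow_succ']

/-- If a power of `g` is central the central commutator has order dividing the exponent. -/
theorem pow_eq_one_of_center {g u c : G} (hc : c ∈ Subgroup.center G) (he : g * u * g⁻¹ = c * u)
    {n : ℕ} (hn : Commute (g ^ n) u) : c ^ n = 1 := by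
  have h1 := conj_pow_eq hc he n
  rw [hn.eq, mul_inv_cancel_right] at h1
  exact mul_eq_right.mp h1.symm

theorem pow_eq_one_of_center' {g u c : G} (hc : c ∈ Subgroup.center G) (he : g * u * g⁻¹ = c * u)
    {n : ℕ} (hn : u ^ n ∈ Subgroup.center G) : c ^ n = 1 := by
  have h1 : g * u ^ n * g⁻¹ = c ^ n * u ^ n := by
    rw [← conj_pow, he, ((mem_center.mp hc u)).mul_pow]
  rw [((mem_center.mp hn g)).symm.eq, mul_inv_cancel_right] at h1
  exact mul_eq_right.mp h1.symm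

theorem commute_of_conj_eq {g u c : G} (he : g * u * g⁻¹ = c * u) (hc : c = 1) : Commute g u := by
  rw [hc, one_mul] at he; exact mul_inv_eq_iff_eq_mul.mp he

variable [Finite G]

theorem Norm.inv {x g : G} (hg : Norm p x g) : Norm p x g⁻¹ := by
  have e : g⁻¹ = g ^ (orderOf g - 1) := inv_eq_of_mul_eq_one_right (by
    rw [← pow_succ', Nat.sub_add_cancel (orderOf_pos g), pow_orderOf_eq_one])
  rw [e]; exact hg.pow _

/-- The normalising elements. -/
def normGrp (p : ℕ) (x : G) : Subgroup G where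
  carrier := {g | Norm p x g}
  one_mem' := fun v hv => by simpa using hv
  mul_mem' := Norm.mul
  inv_mem' := Norm.inv

namespace Two2

variable (h : Two2 G p)
include h

theorem norm_of_mem {x g : G} (hg : g ∈ T p x) : Norm p x g := fun _ hv =>
  mul_mem (mul_mem hg hv) (inv_mem hg)

theorem norm_of_one {x t g : G} (hx : Reg p x) (hx' : x ∉ Subgroup.center G) (ht : t ∈ T p x)
    (ht' : t ∉ Subgroup.center G) (hgt : g * t * g⁻¹ ∈ T p x) : Norm p x g :=
  fun _ hv => h.conj_mem hx hx' ht ht' hgt hv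

theorem norm_Tq {x g : G} (hx : Reg p x) (hx' : x ∉ Subgroup.center G) {q : ℕ} (hq : q.Prime)
    (hqp : q ≠ p) (hg : Norm p x g) {v : G} (hv : v ∈ Tq x q) : g * v * g⁻¹ ∈ Tq x q :=
  (h.mem_Tq hx hx' hq hqp).mpr ⟨((h.mem_Tq hx hx' hq hqp).mp hv).1.conj g,
    ((h.mem_T hx hx').mp (hg v (h.Tq_le_T hq hqp hv))).2⟩

/-- Commuting automorphisms of prime order without fixed points generate a cyclic group. -/
theorem exists_mul_mem {x g k : G} (hx : Reg p x) (hx' : x ∉ Subgroup.center G) {q : ℕ}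
    (hq : q.Prime) (hqp : q ≠ p) (hg : Norm p x g) (hk : Norm p x k) (hgT : g ∉ T p x)
    (hgq : g ^ q ∈ T p x) (hkq : k ^ q ∈ T p x) (hc : g * k * g⁻¹ * k⁻¹ ∈ T p x) :
    ∃ i : ℕ, k * g ^ i ∈ T p x := by
  classical
  by_contra hcon
  push Not at hcon
  obtain ⟨r, hr, hrq⟩ := h.other q
  obtain ⟨v, hv, hv'⟩ := h.exists_mem_Tq hx hx' hr
  let N := normGrp p x
  let T0 := T p x
  letI : CommGroup T0 :=
    { (inferInstance : Group T0) with
      mul_comm := fun a b => Subtype.ext (h.commute_T hx hx' a.2 b.2).eq }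
  let φ : N →* MulAut T0 :=
    { toFun := fun n =>
        { toFun := fun t => ⟨n * t * (n : G)⁻¹, n.2 t t.2⟩
          invFun := fun t => ⟨(n : G)⁻¹ * t * n, by
            have := (n⁻¹).2 t t.2
            simpa using this⟩
          left_inv := fun t => Subtype.ext (by simp [mul_assoc])
          right_inv := fun t => Subtype.ext (by simp [mul_assoc])
          map_mul' := fun a b => Subtype.ext (by simp [mul_assoc]) }
      map_one' := MulEquiv.ext fun t => Subtype.ext (by simp)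
      map_mul' := fun a b => MulEquiv.ext fun t => Subtype.ext (by simp [mul_assoc]) }
  have hφ : ∀ (n : N) (t : T0), ((φ n t : T0) : G) = n * t * (n : G)⁻¹ := fun _ _ => rfl
  let K : Subgroup N := T0.subgroupOf N
  haveI : K.Normal := ⟨fun a ha n => n.2 _ ha⟩
  let ρ : N ⧸ K →* MulAut T0 := QuotientGroup.lift K φ fun a ha =>
    MonoidHom.mem_ker.mpr (MulEquiv.ext fun t => Subtype.ext (by
      rw [hφ, (h.commute_T hx hx' (show (a : G) ∈ T p x from ha) t.2).eq, mul_inv_cancel_right]; rfl))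
  let Zv : Subgroup T0 := (Subgroup.center G).subgroupOf T0
  let gN : N := ⟨g, hg⟩
  let kN : N := ⟨k, hk⟩
  let g' : N ⧸ K := (gN : N ⧸ K)
  let k' : N ⧸ K := (kN : N ⧸ K)
  have hgk : Commute g' k' := by
    have e : ((gN * kN * gN⁻¹ * kN⁻¹ : N) : N ⧸ K) = 1 :=
      (QuotientGroup.eq_one_iff _).mpr hc
    simp only [QuotientGroup.mk_mul, QuotientGroup.mk_inv] at e
    exact mul_inv_eq_iff_eq_mul.mp (mul_inv_eq_one.mp e)
  have hg1 : g' ^ q = 1 := by
    rw [← QuotientGroup.mk_pow]; exact (QuotientGroup.eq_one_iff _).mpr hgq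
  have hk1 : k' ^ q = 1 := by
    rw [← QuotientGroup.mk_pow]; exact (QuotientGroup.eq_one_iff _).mpr hkq
  have hne : g' ≠ 1 := fun e => hgT ((QuotientGroup.eq_one_iff gN).mp e)
  -- norms are central
  have hsum : ∀ z : N ⧸ K, z ^ q = 1 → z ≠ 1 → ∀ w : T0,
      ∏ i ∈ Finset.range q, ρ (z ^ i) w ∈ Zv := by
    intro z hz hz1 w
    obtain ⟨⟨m, hm⟩, rfl⟩ := QuotientGroup.mk_surjective z
    have hmT : m ∉ T p x := fun e => hz1 ((QuotientGroup.eq_one_iff _).mpr e)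
    rw [← QuotientGroup.mk_pow, QuotientGroup.eq_one_iff] at hz
    have hmr : Reg p m := by
      refine Nat.Coprime.coprime_dvd_left (orderOf_dvd_of_pow_eq_one
        (n := q * orderOf (m ^ q)) (by rw [pow_mul, pow_orderOf_eq_one])) ?_
      exact Nat.Coprime.mul_left ((Nat.coprime_primes hq h.hp).mpr hqp)
        ((h.mem_T hx hx').mp (hz : m ^ q ∈ T p x)).1
    set M : N ⧸ K := ((⟨m, hm⟩ : N) : N ⧸ K) with hM
    set P := ∏ i ∈ Finset.range q, ρ (M ^ i) w with hP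
    have hz' : M ^ q = 1 := by rw [hM, ← QuotientGroup.mk_pow]; exact (QuotientGroup.eq_one_iff _).mpr hz
    have hfix : ρ M P = P := by
      rw [hP, map_prod]
      simp only [← MulAut.mul_apply, ← map_mul, ← pow_succ']
      rw [← mul_left_inj (ρ (M ^ 0) w), ← Finset.prod_range_succ' (fun i => ρ (M ^ i) w),
        Finset.prod_range_succ, hz', pow_zero]
    by_contra hPZ
    refine hmT (h.mem_of_commute hx hx' P.2 hPZ hmr ?_)
    exact mul_inv_eq_iff_eq_mul.mp (congrArg Subtype.val hfix)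
  have hki : ∀ i : ℕ, (k' * g' ^ i) ^ q = 1 ∧ k' * g' ^ i ≠ 1 := fun i =>
    ⟨by rw [(hgk.symm.pow_right i).mul_pow, hk1, ← pow_mul, mul_comm, pow_mul, hg1, one_pow, mul_one],
      fun e => hcon i ((QuotientGroup.eq_one_iff (N := K)
        (kN * gN ^ i)).mp (by rw [QuotientGroup.mk_mul, QuotientGroup.mk_pow]; exact e))⟩
  let v0 : T0 := ⟨v, h.Tq_le_T hr.1 hr.2.1 hv⟩
  have e1 : ∏ i ∈ Finset.range q, ∏ l ∈ Finset.range q, ρ ((k' * g' ^ i) ^ l) v0 ∈ Zv :=
    Subgroup.prod_mem _ fun i _ => hsum _ (hki i).1 (hki i).2 _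
  rw [Finset.prod_comm] at e1
  have e2 : ∀ l ∈ Finset.range q, l ≠ 0 →
      ∏ i ∈ Finset.range q, ρ ((k' * g' ^ i) ^ l) v0 ∈ Zv := by
    intro l hl hl0
    have hgl : g' ^ l ≠ 1 := fun e => by
      haveI : Fact q.Prime := ⟨hq⟩
      have := orderOf_dvd_of_pow_eq_one e
      rw [orderOf_eq_prime hg1 hne] at this
      exact absurd (Nat.le_of_dvd (Nat.pos_of_ne_zero hl0) this) (not_le.mpr (Finset.mem_range.mp hl))
    have e := hsum (g' ^ l) (by rw [← pow_mul, mul_comm, pow_mul, hg1, one_pow]) hgl (ρ (k' ^ l) v0)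
    refine (congrArg (· ∈ Zv) (Finset.prod_congr rfl fun i _ => ?_)).mp e
    rw [← MulAut.mul_apply, ← map_mul]
    congr 2
    rw [(hgk.symm.pow_right i).mul_pow, ← pow_mul, ← pow_mul, mul_comm l i,
      (hgk.symm.pow_pow l (i * l)).eq]
  rw [← Finset.mul_prod_erase _ _ (Finset.mem_range.mpr hq.pos)] at e1
  have e3 := (Subgroup.mul_mem_cancel_right Zv (Subgroup.prod_mem _ fun l hl =>
    e2 l (Finset.mem_of_mem_erase hl) (Finset.ne_of_mem_erase hl))).mp e1
  simp only [pow_zero, map_one, MulAut.one_apply, Finset.prod_const, Finset.card_range] at e3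
  have hvq : v ^ q ∈ Subgroup.center G := e3
  obtain ⟨j, hj⟩ := ((h.mem_Tq hx hx' hr.1 hr.2.1).mp hv).1
  obtain ⟨m, hm⟩ := exists_pow_eq_self_of_coprime (x := v) (n := q)
    (Nat.Coprime.coprime_dvd_right (orderOf_dvd_of_pow_eq_one hj)
      (Nat.Coprime.pow_right j ((Nat.coprime_primes hq hr.1).mpr hrq.symm)))
  exact hv' (hm ▸ pow_mem hvq m)

theorem bad_lt_card {q : ℕ} (hb : Bad G p q) {x : G} (hx : Reg p x) (hx' : x ∉ Subgroup.center G)
    {S : Subgroup G} [Fact q.Prime] (hS : ∃ Q : Sylow q G, (Q : Subgroup G) = S) :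
    Nat.card (Tq x q) < Nat.card S := by
  obtain ⟨Q, rfl⟩ := hS
  rw [h.card_Tq hx hx' hb.1.1 hb.1.2.1, Q.card_eq_multiplicity]
  exact Nat.pow_lt_pow_right hb.1.1.one_lt (hb.2 x hx hx')

/-- A normalising element of a bad prime outside `T`. -/
theorem exists_normalizing {x : G} (hx : Reg p x) (hx' : x ∉ Subgroup.center G) {q : ℕ}
    (hb : Bad G p q) : ∃ g, IsQ q g ∧ Norm p x g ∧ g ∉ T p x := by
  obtain ⟨hq, hqp, -⟩ := hb.1
  haveI : Fact q.Prime := ⟨hq⟩
  obtain ⟨Q, hQ⟩ := (h.isPGroup_Tq hx hx' hq hqp).exists_le_sylow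
  haveI : Group.IsNilpotent Q := Q.isPGroup'.isNilpotent
  have hlt : (Tq x q).subgroupOf Q < ⊤ := lt_top_iff_ne_top.mpr fun e =>
    (h.bad_lt_card hb hx hx' ⟨Q, rfl⟩).not_ge (Subgroup.card_le_of_le (Subgroup.subgroupOf_eq_top.mp e))
  obtain ⟨⟨g, hgQ⟩, hgn, hgT⟩ := SetLike.exists_of_lt (normalizerCondition_of_isNilpotent _ hlt)
  obtain ⟨w, hw, hw'⟩ := h.exists_mem_Tq hx hx' hb.1
  have hgw : g * w * g⁻¹ ∈ Tq x q :=
    (Subgroup.mem_normalizer_iff.mp hgn ⟨w, hQ hw⟩).mp hw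
  refine ⟨g, IsQ.of_mem Q.isPGroup' hgQ, h.norm_of_one hx hx' (h.Tq_le_T hq hqp hw) hw'
    (h.Tq_le_T hq hqp hgw), fun e => hgT ?_⟩
  exact (h.mem_Tq hx hx' hq hqp).mpr ⟨IsQ.of_mem Q.isPGroup' hgQ, ((h.mem_T hx hx').mp e).2⟩

/-- A second-centre element of a Sylow subgroup of a bad prime. -/
theorem exists_second {q : ℕ} (hb : Bad G p q) [Fact q.Prime] : ∃ (Q : Sylow q G) (u : G),
    u ∈ (Q : Subgroup G) ∧ u ∉ Subgroup.center G ∧ u ^ q ∈ Subgroup.center G ∧
      ∀ g ∈ (Q : Subgroup G), g * u * g⁻¹ * u⁻¹ ∈ Subgroup.center G := by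
  classical
  obtain ⟨hq, hqp, y, hy, hy'⟩ := hb.1
  have hyp : IsPGroup q (Subgroup.zpowers y) := fun g => by
    obtain ⟨k, hk⟩ := hy
    obtain ⟨i, hi⟩ := Subgroup.mem_zpowers_iff.mp g.2
    refine ⟨k, Subtype.ext ?_⟩
    rw [Subgroup.coe_pow, ← hi, ← zpow_natCast, ← zpow_mul, mul_comm, zpow_mul, zpow_natCast, hk,
      one_zpow]
    rfl
  obtain ⟨Q, hQ⟩ := hyp.exists_le_sylow
  -- central elements of `Q` are central
  have hZ : ∀ z ∈ (Q : Subgroup G), (∀ g ∈ (Q : Subgroup G), Commute g z) → z ∈ Subgroup.center G := by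
    intro z hz hzc
    by_contra hz'
    have hzr := (IsQ.of_mem Q.isPGroup' hz).reg h.hp hq hqp
    refine (h.bad_lt_card hb hzr hz' ⟨Q, rfl⟩).not_ge (Subgroup.card_le_of_le fun g hg => ?_)
    exact (h.mem_Tq hzr hz' hq hqp).mpr ⟨IsQ.of_mem Q.isPGroup' hg, hzc g hg⟩
  let Zq : Subgroup Q := (Subgroup.center G).subgroupOf Q
  haveI : Zq.Normal := inferInstanceAs ((Subgroup.center G).subgroupOf (Q : Subgroup G)).Normal
  haveI : Nontrivial (Q ⧸ Zq) := ⟨((⟨y, hQ (Subgroup.mem_zpowers y)⟩ : Q) : Q ⧸ Zq), 1,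
    fun e => hy' ((QuotientGroup.eq_one_iff _).mp e : _ ∈ Zq)⟩
  haveI := (Q.isPGroup'.to_quotient Zq).center_nontrivial
  obtain ⟨⟨c, hc⟩, hc1⟩ := exists_ne (1 : Subgroup.center (Q ⧸ Zq))
  obtain ⟨a, rfl⟩ := QuotientGroup.mk_surjective c
  have ha : (a : G) ∉ Subgroup.center G := fun e => hc1 (Subtype.ext ((QuotientGroup.eq_one_iff a).mpr e))
  obtain ⟨k, hk⟩ := IsQ.of_mem Q.isPGroup' a.2
  have hex : ∃ j, (a : G) ^ q ^ j ∈ Subgroup.center G := ⟨k, hk ▸ one_mem _⟩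
  have hj0 : Nat.find hex ≠ 0 := fun e => ha (by
    have := Nat.find_spec hex; rwa [e, pow_zero, pow_one] at this)
  refine ⟨Q, (a : G) ^ q ^ (Nat.find hex - 1), pow_mem a.2 _,
    Nat.find_min hex (Nat.sub_one_lt hj0), ?_, fun g hg => ?_⟩
  · rw [← pow_mul, ← pow_succ, Nat.sub_add_cancel (Nat.pos_of_ne_zero hj0)]
    exact Nat.find_spec hex
  · have hcomm : Commute ((⟨g, hg⟩ : Q) : Q ⧸ Zq) ((a ^ q ^ (Nat.find hex - 1) : Q) : Q ⧸ Zq) := by
      rw [QuotientGroup.mk_pow]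
      exact (Commute.pow_right (Subgroup.mem_center_iff.mp hc _) _)
    have e : ((⟨g, hg⟩ * a ^ q ^ (Nat.find hex - 1) * ⟨g, hg⟩⁻¹ *
        (a ^ q ^ (Nat.find hex - 1))⁻¹ : Q) : Q ⧸ Zq) = 1 := by
      simp only [QuotientGroup.mk_mul, QuotientGroup.mk_inv]
      rw [hcomm.eq, mul_inv_cancel_right, mul_inv_cancel]
    exact ((QuotientGroup.eq_one_iff _).mp e : _ ∈ Zq)

/-- The `q`-part of a centraliser has index `q` in a Sylow subgroup. -/
theorem factorization_bad {q : ℕ} (hb : Bad G p q) {x : G} (hx : Reg p x)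
    (hx' : x ∉ Subgroup.center G) :
    (Nat.card G).factorization q ≤ (Nat.card (cz x)).factorization q + 1 := by
  obtain ⟨hq, hqp, -⟩ := hb.1
  haveI : Fact q.Prime := ⟨hq⟩
  obtain ⟨Q, u, huQ, hu', huq, hcomm⟩ := h.exists_second hb
  have hur := (IsQ.of_mem Q.isPGroup' huQ).reg h.hp hq hqp
  have huT : u ∈ T p u := (h.mem_T hur hu').mpr ⟨hur, Commute.refl u⟩
  have hcr : ∀ g ∈ (Q : Subgroup G), (g * u * g⁻¹ * u⁻¹) ^ q = 1 := fun g hg =>
    pow_eq_one_of_center' (g := g) (u := u) (hcomm g hg) (by group) huq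
  have hn : ∀ g ∈ (Q : Subgroup G), Norm p u g := fun g hg => by
    refine h.norm_of_one hur hu' huT hu' ((h.mem_T hur hu').mpr ⟨?_, ?_⟩)
    · exact (IsQ.of_mem Q.isPGroup' (mul_mem (mul_mem hg huQ) (inv_mem hg))).reg h.hp hq hqp
    · rw [show g * u * g⁻¹ = (g * u * g⁻¹ * u⁻¹) * u by group]
      exact (mem_center.mp (hcomm g hg) u).mul_left (Commute.refl u)
  have hpq : ∀ g ∈ (Q : Subgroup G), g ^ q ∈ T p u := fun g hg => by
    refine (h.mem_T hur hu').mpr ⟨(IsQ.of_mem Q.isPGroup' (pow_mem hg q)).reg h.hp hq hqp, ?_⟩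
    have := conj_pow_eq (g := g) (u := u) (hcomm g hg) (by group) q
    rw [hcr g hg, one_mul] at this
    exact mul_inv_eq_iff_eq_mul.mp this
  have hcT : ∀ g ∈ (Q : Subgroup G), ∀ k ∈ (Q : Subgroup G), g * k * g⁻¹ * k⁻¹ ∈ T p u := by
    intro g hg k hk
    refine (h.mem_T hur hu').mpr ⟨(IsQ.of_mem Q.isPGroup'
      (mul_mem (mul_mem (mul_mem hg hk) (inv_mem hg)) (inv_mem hk))).reg h.hp hq hqp, ?_⟩
    have e : ∀ a ∈ (Q : Subgroup G), ((a * u : G) : G ⧸ Subgroup.center G) = ((u * a : G) : G ⧸ _) :=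
      fun a ha => by
        refine (mul_inv_eq_one.mp ?_)
        rw [← QuotientGroup.mk_inv, ← QuotientGroup.mk_mul, QuotientGroup.eq_one_iff, mul_inv_rev,
          ← mul_assoc]
        exact hcomm a ha
    -- the commutator map to the centre is multiplicative
    have hd : ∀ a b : G, a ∈ (Q : Subgroup G) → b ∈ (Q : Subgroup G) →
        (a * b) * u * (a * b)⁻¹ * u⁻¹ = (a * u * a⁻¹ * u⁻¹) * (b * u * b⁻¹ * u⁻¹) := by
      intro a b ha hb'
      calc (a * b) * u * (a * b)⁻¹ * u⁻¹ = a * ((b * u * b⁻¹ * u⁻¹) * u) * a⁻¹ * u⁻¹ := by group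
        _ = (b * u * b⁻¹ * u⁻¹) * (a * u * a⁻¹ * u⁻¹) := by
          rw [← mul_assoc a, ← (mem_center.mp (hcomm b hb') a).eq]; group
        _ = _ := (mem_center.mp (hcomm b hb') _).eq
    have hinv : ∀ a : G, a ∈ (Q : Subgroup G) → a⁻¹ * u * a⁻¹⁻¹ * u⁻¹ = (a * u * a⁻¹ * u⁻¹)⁻¹ := by
      intro a ha
      refine eq_inv_of_mul_eq_one_right ?_
      rw [← hd a a⁻¹ ha (inv_mem ha)]; group
    have : (g * k * g⁻¹ * k⁻¹) * u * (g * k * g⁻¹ * k⁻¹)⁻¹ * u⁻¹ = 1 := by
      rw [hd _ _ (mul_mem (mul_mem hg hk) (inv_mem hg)) (inv_mem hk),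
        hd _ _ (mul_mem hg hk) (inv_mem hg), hd g k hg hk, hinv g hg, hinv k hk,
        (mem_center.mp (hcomm g hg) (k * u * k⁻¹ * u⁻¹)).eq]
      group
    exact mul_inv_eq_iff_eq_mul.mp (mul_inv_eq_one.mp this)
  obtain ⟨g, hgQ, hgT⟩ : ∃ g ∈ (Q : Subgroup G), g ∉ T p u := by
    by_contra hcon
    push Not at hcon
    refine (h.bad_lt_card hb hur hu' ⟨Q, rfl⟩).not_ge (Subgroup.card_le_of_le fun g hg => ?_)
    exact (h.mem_Tq hur hu' hq hqp).mpr ⟨IsQ.of_mem Q.isPGroup' hg, ((h.mem_T hur hu').mp (hcon g hg)).2⟩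
  have hle : Nat.card (Q : Subgroup G) ≤ q * Nat.card (Tq u q) := by
    have hsurj : ∀ k : (Q : Subgroup G), ∃ a : Fin q × Tq u q,
        (a.2 : G) * (g ^ (a.1 : ℕ))⁻¹ = (k : G) := by
      intro k
      obtain ⟨i, hi⟩ := h.exists_mul_mem hur hu' hq hqp (hn g hgQ) (hn k k.2) hgT (hpq g hgQ)
        (hpq k k.2) (hcT g hgQ k k.2)
      have hi' : (k : G) * g ^ (i % q) ∈ T p u := by
        rw [← Nat.mod_add_div i q, pow_add, pow_mul, ← mul_assoc] at hi
        exact (Subgroup.mul_mem_cancel_right _ (pow_mem (hpq g hgQ) _)).mp hi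
      exact ⟨⟨⟨i % q, Nat.mod_lt _ hq.pos⟩, ⟨_, (h.mem_Tq hur hu' hq hqp).mpr
        ⟨IsQ.of_mem Q.isPGroup' (mul_mem k.2 (pow_mem hgQ _)), ((h.mem_T hur hu').mp hi').2⟩⟩⟩,
        by simp⟩
    choose f hf using hsurj
    have := Nat.card_le_card_of_injective f fun a b e => Subtype.ext (by rw [← hf a, e, hf b])
    rwa [Nat.card_prod, Nat.card_fin] at this
  rw [Q.card_eq_multiplicity, h.card_Tq hur hu' hq hqp, ← pow_succ', h.card_eq u x hur hx hu' hx'] at hle
  exact (Nat.pow_le_pow_iff_right hq.one_lt).mp hle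

/-- A normalising element outside `T` has central `q`-th power. -/
theorem pow_mem_center {x g : G} (hx : Reg p x) (hx' : x ∉ Subgroup.center G) {q : ℕ}
    (hb : Bad G p q) (hgq : IsQ q g) (hgn : Norm p x g) (hgT : g ∉ T p x) :
    IsPGroup q (Tq x q ⊔ Subgroup.zpowers g : Subgroup G) ∧ g ^ q ∈ Subgroup.center G := by
  obtain ⟨hq, hqp, -⟩ := hb.1
  haveI : Fact q.Prime := ⟨hq⟩
  set W := Tq x q ⊔ Subgroup.zpowers g
  have hnorm : Subgroup.zpowers g ≤ Subgroup.normalizer (Tq x q : Set G) := by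
    rw [Subgroup.zpowers_le, Subgroup.mem_normalizer_iff]
    intro v
    refine ⟨fun hv => h.norm_Tq hx hx' hq hqp hgn hv, fun hv => ?_⟩
    have := h.norm_Tq hx hx' hq hqp hgn.inv hv
    simpa [mul_assoc] using this
  have hgp : IsPGroup q (Subgroup.zpowers g) := fun a => by
    obtain ⟨k, hk⟩ := hgq
    obtain ⟨i, hi⟩ := Subgroup.mem_zpowers_iff.mp a.2
    refine ⟨k, Subtype.ext ?_⟩
    rw [Subgroup.coe_pow, ← hi, ← zpow_natCast, ← zpow_mul, mul_comm, zpow_mul, zpow_natCast, hk,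
      one_zpow]
    rfl
  have hW : IsPGroup q W := (h.isPGroup_Tq hx hx' hq hqp).to_sup_of_normal_left' hgp hnorm
  refine ⟨hW, ?_⟩
  obtain ⟨S, hS⟩ := hW.exists_le_sylow
  have hle : Nat.card W ≤ q * Nat.card (Tq x q) := by
    refine (Subgroup.card_le_of_le hS).trans ?_
    rw [S.card_eq_multiplicity, h.card_Tq hx hx' hq hqp, ← pow_succ']
    exact Nat.pow_le_pow_right hq.pos (h.factorization_bad hb hx hx')
  haveI : ((Tq x q).subgroupOf W).Normal :=
    (Subgroup.normal_subgroupOf_iff_le_normalizer le_sup_left).mpr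
      (sup_le Subgroup.le_normalizer hnorm)
  have hidx : ((Tq x q).subgroupOf W).index = q := by
    have hmul : Nat.card ((Tq x q).subgroupOf W) * ((Tq x q).subgroupOf W).index = Nat.card W :=
      Subgroup.card_mul_index _
    rw [Nat.card_congr (Subgroup.subgroupOfEquivOfLe (le_sup_left : Tq x q ≤ W)).toEquiv] at hmul
    have hile : ((Tq x q).subgroupOf W).index ≤ q :=
      Nat.le_of_mul_le_mul_left (by rw [hmul, mul_comm]; exact hle) Nat.card_pos
    obtain ⟨n, hn⟩ := hW.exists_card_eq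
    obtain ⟨j, -, hj⟩ := (Nat.dvd_prime_pow hq).mp (hn ▸ Subgroup.index_dvd_card
      ((Tq x q).subgroupOf W))
    rcases j with _ | _ | j
    · refine absurd ?_ hgT
      rw [pow_zero, Subgroup.index_eq_one, Subgroup.subgroupOf_eq_top] at hj
      exact h.Tq_le_T hq hqp (hj ((le_sup_right : _ ≤ W) (Subgroup.mem_zpowers g)))
    · rw [hj, pow_one]
    · rw [hj] at hile
      exact absurd hile (not_le.mpr (lt_self_pow₀ hq.one_lt (by omega)))
  have hgqT : g ^ q ∈ Tq x q := by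
    have := ((Tq x q).subgroupOf W).pow_index_mem ⟨g, le_sup_right (α := Subgroup G) (Subgroup.mem_zpowers g)⟩
    rwa [hidx] at this
  by_contra hne
  exact hgT (h.mem_of_commute hx hx' (h.Tq_le_T hq hqp hgqT) hne (hgq.reg h.hp hq hqp)
    (Commute.pow_right (Commute.refl g) q))

theorem conj_center_props {x g v : G} (hx : Reg p x) (hx' : x ∉ Subgroup.center G) {q : ℕ}
    (hb : Bad G p q) (hgq : IsQ q g) (hgn : Norm p x g) (hgT : g ∉ T p x) (hv : v ∈ Tq x q)
    (hc : g * v * g⁻¹ * v⁻¹ ∈ Subgroup.center G) :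
    v ^ q ∈ Subgroup.center G ∧ (g * v * g⁻¹ * v⁻¹) ^ q = 1 := by
  obtain ⟨hq, hqp, -⟩ := hb.1
  have h1 : (g * v * g⁻¹ * v⁻¹) ^ q = 1 := pow_eq_one_of_center (g := g) (u := v) hc (by group)
    (mem_center.mp (h.pow_mem_center hx hx' hb hgq hgn hgT).2 v)
  refine ⟨?_, h1⟩
  by_contra hne
  refine hgT (h.mem_of_commute hx hx' (h.Tq_le_T hq hqp (pow_mem hv q)) hne (hgq.reg h.hp hq hqp) ?_)
  refine mul_inv_eq_iff_eq_mul.mp ?_
  rw [← conj_pow, show g * v * g⁻¹ = (g * v * g⁻¹ * v⁻¹) * v by group,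
    (mem_center.mp hc v).mul_pow, h1, one_mul]

/-- The elements with central commutator form one line. -/
theorem line {x g v w : G} (hx : Reg p x) (hx' : x ∉ Subgroup.center G) {q : ℕ}
    (hb : Bad G p q) (hgq : IsQ q g) (hgn : Norm p x g) (hgT : g ∉ T p x) (hv : v ∈ Tq x q)
    (hw : w ∈ Tq x q) (hv' : v ∉ Subgroup.center G)
    (hcv : g * v * g⁻¹ * v⁻¹ ∈ Subgroup.center G) (hcw : g * w * g⁻¹ * w⁻¹ ∈ Subgroup.center G) :
    ∃ i : ℕ, w * v ^ i ∈ Subgroup.center G := by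
  obtain ⟨hq, hqp, -⟩ := hb.1
  have hgr := hgq.reg h.hp hq hqp
  have hg' : g ∉ Subgroup.center G := fun e => hgT (h.center_le_T e hgr)
  have hgg : g ∈ T p g := (h.mem_T hgr hg').mpr ⟨hgr, Commute.refl g⟩
  have hnorm : ∀ u ∈ Tq x q, g * u * g⁻¹ * u⁻¹ ∈ Subgroup.center G →
      Norm p g u ∧ u ^ q ∈ T p g := fun u hu hcu => by
    obtain ⟨h1, h2⟩ := h.conj_center_props hx hx' hb hgq hgn hgT hu hcu
    refine ⟨h.norm_of_one hgr hg' hgg hg' ?_, ?_⟩
    · rw [show u * g * u⁻¹ = (g * u * g⁻¹ * u⁻¹)⁻¹ * g by group]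
      refine mul_mem (inv_mem (h.center_le_T hcu ?_)) hgg
      exact IsQ.reg h.hp hq hqp ⟨1, by rwa [pow_one]⟩
    · refine h.center_le_T h1 ?_
      exact (((h.mem_Tq hx hx' hq hqp).mp hu).1.pow q).reg h.hp hq hqp
  have hvT : v ∉ T p g := fun e => hgT (h.mem_of_commute hx hx' (h.Tq_le_T hq hqp hv) hv' hgr
    ((h.mem_T hgr hg').mp e).2.symm)
  obtain ⟨i, hi⟩ := h.exists_mul_mem hgr hg' hq hqp (hnorm v hv hcv).1 (hnorm w hw hcw).1 hvT
    (hnorm v hv hcv).2 (hnorm w hw hcw).2 (by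
      rw [(h.commute_T hx hx' (h.Tq_le_T hq hqp hv) (h.Tq_le_T hq hqp hw)).eq, mul_inv_cancel_right,
        mul_inv_cancel]
      exact one_mem _)
  refine ⟨i, by_contra fun hne => hgT ?_⟩
  exact h.mem_of_commute hx hx' (h.Tq_le_T hq hqp (mul_mem hw (pow_mem hv i))) hne hgr
    ((h.mem_T hgr hg').mp hi).2.symm

/-- Iterated commutators end in the centre. -/
theorem exists_step {x g v : G} (hx : Reg p x) (hx' : x ∉ Subgroup.center G) {q : ℕ}
    (hb : Bad G p q) (hgq : IsQ q g) (hgn : Norm p x g) (hgT : g ∉ T p x) (hv : v ∈ Tq x q)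
    (hv' : v ∉ Subgroup.center G) :
    ∃ z ∈ Tq x q, z ∉ Subgroup.center G ∧ g * z * g⁻¹ * z⁻¹ ∈ Subgroup.center G ∧
      (g * v * g⁻¹ * v⁻¹ ∉ Subgroup.center G → ∃ u ∈ Tq x q, g * u * g⁻¹ * u⁻¹ = z) := by
  obtain ⟨hq, hqp, -⟩ := hb.1
  haveI : Fact q.Prime := ⟨hq⟩
  classical
  obtain ⟨hW, -⟩ := h.pow_mem_center hx hx' hb hgq hgn hgT
  set W := Tq x q ⊔ Subgroup.zpowers g
  haveI := hW.isNilpotent
  let g0 : W := ⟨g, le_sup_right (α := Subgroup G) (Subgroup.mem_zpowers g)⟩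
  let δ : G → G := fun u => g * u * g⁻¹ * u⁻¹
  have hδ : ∀ n, δ^[n] v ∈ Tq x q := fun n => by
    induction n with
    | zero => exact hv
    | succ n ih =>
      rw [Function.iterate_succ', Function.comp_apply]
      exact mul_mem (h.norm_Tq hx hx' hq hqp hgn ih) (inv_mem ih)
  have hl : ∀ n, ∃ a : W, (a : G) = δ^[n] v ∧ a ∈ Subgroup.lowerCentralSeries (⊤ : Subgroup W) n := fun n => by
    induction n with
    | zero => exact ⟨⟨v, le_sup_left (α := Subgroup G) hv⟩, rfl, by simp⟩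
    | succ n ih =>
      obtain ⟨a, ha, ha'⟩ := ih
      refine ⟨g0 * a * g0⁻¹ * a⁻¹, ?_, ?_⟩
      · rw [Function.iterate_succ', Function.comp_apply, ← ha]; rfl
      · rw [show g0 * a * g0⁻¹ * a⁻¹ = (a * g0 * a⁻¹ * g0⁻¹)⁻¹ by group,
          Subgroup.lowerCentralSeries_succ]
        exact inv_mem (Subgroup.commutator_mem_commutator ha' (Subgroup.mem_top g0))
  obtain ⟨n, hn⟩ := (Subgroup.nilpotent_iff_lowerCentralSeries (G := W)).mp inferInstance
  have hex : ∃ n, δ^[n] v ∈ Subgroup.center G := ⟨n, by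
    obtain ⟨a, ha, ha'⟩ := hl n
    rw [hn, Subgroup.mem_bot] at ha'
    rw [← ha, ha']; exact one_mem _⟩
  obtain ⟨m, hm⟩ := Nat.exists_eq_succ_of_ne_zero (n := Nat.find hex) fun e => hv' (by
    have := Nat.find_spec hex; rwa [e] at this)
  refine ⟨δ^[m] v, hδ m, Nat.find_min hex (by omega), ?_, fun hne => ?_⟩
  · have := Nat.find_spec hex
    rwa [hm, Nat.succ_eq_add_one, Function.iterate_succ', Function.comp_apply] at this
  · rcases m with _ | m
    · have := Nat.find_spec hex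
      rw [hm] at this
      exact absurd this hne
    · exact ⟨δ^[m] v, hδ m, by rw [Function.iterate_succ', Function.comp_apply]⟩

end Two2

end CfsgLib.ClassSize.TwoReg
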