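import Mathlib.GroupTheory.Sylow
import Mathlib.GroupTheory.SchurZassenhaus
import Mathlib.GroupTheory.Nilpotent

/-!
# Two class sizes of elements of order prime to `p`

If all non-central elements of order prime to `p` have centralisers of the same order, and at least
two primes carry non-central elements, the elements of order prime to `p` of such a centraliser
form an abelian subgroup `T`, and these subgroups partition the non-central elements.
-/

set_option autoImplicit false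
set_option linter.style.haveILetI false

namespace CfsgLib.ClassSize.TwoReg

variable {G : Type*} [Group G]

/-- The order is prime to `p`. -/
def Reg (p : ℕ) (x : G) : Prop := (orderOf x).Coprime p

/-- The order is a power of `q`. -/
def IsQ (q : ℕ) (x : G) : Prop := ∃ k, x ^ q ^ k = 1

/-- The centraliser of an element. -/
abbrev cz (x : G) : Subgroup G := Subgroup.centralizer ({x} : Set G)

theorem mem_cz {g x : G} : g ∈ cz x ↔ Commute g x := by
  rw [Subgroup.mem_centralizer_singleton_iff]; rfl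

theorem mem_center {g : G} : g ∈ Subgroup.center G ↔ ∀ h : G, Commute g h := by
  rw [Subgroup.mem_center_iff]; exact forall_congr' fun h => ⟨fun e => e.symm, fun e => e.symm⟩

theorem IsQ.coprime {q : ℕ} (hq : q.Prime) {x : G} (hx : IsQ q x) {m : ℕ} (hm : ¬ q ∣ m) :
    (orderOf x).Coprime m := by
  obtain ⟨k, hk⟩ := hx
  exact Nat.Coprime.coprime_dvd_left (orderOf_dvd_of_pow_eq_one hk)
    (Nat.Coprime.pow_left k (hq.coprime_iff_not_dvd.mpr hm))

theorem IsQ.reg {p q : ℕ} (hp : p.Prime) (hq : q.Prime) (hqp : q ≠ p) {x : G} (hx : IsQ q x) :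
    Reg p x := hx.coprime hq fun h => hqp ((Nat.prime_dvd_prime_iff_eq hq hp).mp h)

theorem IsQ.one (q : ℕ) : IsQ q (1 : G) := ⟨0, one_pow _⟩

theorem IsQ.inv {q : ℕ} {x : G} (hx : IsQ q x) : IsQ q x⁻¹ := by
  obtain ⟨k, hk⟩ := hx; exact ⟨k, by rw [inv_pow, hk, inv_one]⟩

theorem IsQ.conj {q : ℕ} {x : G} (hx : IsQ q x) (g : G) : IsQ q (g * x * g⁻¹) := by
  obtain ⟨k, hk⟩ := hx; exact ⟨k, by rw [conj_pow, hk, mul_one, mul_inv_cancel]⟩

theorem IsQ.mul {q : ℕ} {x y : G} (hx : IsQ q x) (hy : IsQ q y) (h : Commute x y) :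
    IsQ q (x * y) := by
  obtain ⟨k, hk⟩ := hx
  obtain ⟨l, hl⟩ := hy
  refine ⟨k + l, ?_⟩
  rw [h.mul_pow, pow_add, pow_mul, hk, one_pow, one_mul, mul_comm, pow_mul, hl, one_pow]

theorem IsQ.pow {q : ℕ} {x : G} (hx : IsQ q x) (n : ℕ) : IsQ q (x ^ n) := by
  obtain ⟨k, hk⟩ := hx; exact ⟨k, by rw [← pow_mul, mul_comm, pow_mul, hk, one_pow]⟩

theorem IsQ.of_mem {q : ℕ} {Q : Subgroup G} (hQ : IsPGroup q Q) {x : G} (hx : x ∈ Q) : IsQ q x := by
  obtain ⟨k, hk⟩ := hQ ⟨x, hx⟩; exact ⟨k, congrArg Subtype.val hk⟩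

theorem eq_one_of_coprime {c : G} {a b : ℕ} (ha : c ^ a = 1) (hb : c ^ b = 1) (h : a.Coprime b) :
    c = 1 := orderOf_eq_one_iff.mp (Nat.dvd_one.mp (h.gcd_eq_one ▸
  Nat.dvd_gcd (orderOf_dvd_of_pow_eq_one ha) (orderOf_dvd_of_pow_eq_one hb)))

/-- All non-central elements of order prime to `p` have centralisers of the same order. -/
structure Two (G : Type*) [Group G] (p : ℕ) : Prop where
  hp : p.Prime
  card_eq : ∀ x y : G, Reg p x → Reg p y → x ∉ Subgroup.center G → y ∉ Subgroup.center G →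
    Nat.card (cz x) = Nat.card (cz y)

/-- A prime other than `p` with a non-central element of prime power order. -/
def Pi (G : Type*) [Group G] (p q : ℕ) : Prop :=
  q.Prime ∧ q ≠ p ∧ ∃ x : G, IsQ q x ∧ x ∉ Subgroup.center G

/-- The elements of order prime to `p` of a centraliser. -/
def T (p : ℕ) (x : G) : Subgroup G := Subgroup.closure {y | Reg p y ∧ Commute y x}

/-- The elements of `q`-power order of a centraliser. -/
def Tq (x : G) (q : ℕ) : Subgroup G := Subgroup.closure {y | IsQ q y ∧ Commute y x}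

variable [Finite G] {p : ℕ}

/-- A non-central element of order prime to `p` has a non-central primary part. -/
theorem exists_part (hp : p.Prime) {x : G} (hr : Reg p x) (hx : x ∉ Subgroup.center G) :
    ∃ q, q.Prime ∧ q ≠ p ∧ ∃ n : ℕ, IsQ q (x ^ n) ∧ x ^ n ∉ Subgroup.center G := by
  by_contra hcon
  push Not at hcon
  have key : orderOf (x : G ⧸ Subgroup.center G) = 1 := by
    by_contra h1
    obtain ⟨q, hq, hqd⟩ := Nat.exists_prime_and_dvd h1
    have hd : orderOf (x : G ⧸ Subgroup.center G) ∣ orderOf x :=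
      orderOf_map_dvd (QuotientGroup.mk' (Subgroup.center G)) x
    have hqp : q ≠ p := by
      rintro rfl
      exact hp.ne_one (Nat.dvd_one.mp ((Nat.Coprime.gcd_eq_one hr) ▸
        Nat.dvd_gcd (hqd.trans hd) dvd_rfl))
    obtain ⟨a, m, hm, ho⟩ := Nat.exists_eq_pow_mul_and_not_dvd (orderOf_pos x).ne' q hq.ne_one
    have := hcon q hq hqp m ⟨a, by rw [← pow_mul, mul_comm, ← ho, pow_orderOf_eq_one]⟩
    rw [← QuotientGroup.eq_one_iff, QuotientGroup.mk_pow] at this
    exact hm (hqd.trans (orderOf_dvd_of_pow_eq_one this))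
  exact hx ((QuotientGroup.eq_one_iff x).mp (orderOf_eq_one_iff.mp key))

namespace Two

variable (h : Two G p)
include h

theorem eq_of_le {x y : G} (hx : Reg p x) (hy : Reg p y) (hx' : x ∉ Subgroup.center G)
    (hy' : y ∉ Subgroup.center G) (hle : cz x ≤ cz y) : cz x = cz y :=
  SetLike.coe_injective (Set.eq_of_subset_of_ncard_le hle (by
    rw [← Nat.card_coe_set_eq, ← Nat.card_coe_set_eq]
    exact (h.card_eq x y hx hy hx' hy').ge) (Set.toFinite _))

theorem cz_pow {x : G} {n : ℕ} (hx : Reg p x) (hn : x ^ n ∉ Subgroup.center G) :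
    cz (x ^ n) = cz x := by
  refine (h.eq_of_le hx ?_ (fun e => hn (pow_mem e n)) hn fun g hg => ?_).symm
  · exact Nat.Coprime.coprime_dvd_left (orderOf_pow_dvd n) hx
  · exact mem_cz.mpr ((mem_cz.mp hg).pow_right n)

theorem cz_eq_of_coprime {x y : G} (hx : Reg p x) (hy : Reg p y) (hx' : x ∉ Subgroup.center G)
    (hy' : y ∉ Subgroup.center G) (hc : Commute x y) (hco : (orderOf x).Coprime (orderOf y)) :
    cz x = cz y := by
  have hxy : Reg p (x * y) := by
    rw [Reg, hc.orderOf_mul_eq_mul_orderOf_of_coprime hco]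
    exact Nat.Coprime.mul_left hx hy
  have key : ∀ a b : G, Commute a b → (orderOf a).Coprime (orderOf b) →
      cz (a * b) ≤ cz a := fun a b hab hab' g hg => by
    obtain ⟨e, he1, he2⟩ := Nat.chineseRemainder hab' 1 0
    have e1 : (a * b) ^ e = a := by
      rw [hab.mul_pow, orderOf_dvd_iff_pow_eq_one.mp (Nat.modEq_zero_iff_dvd.mp he2), mul_one]
      exact (pow_eq_pow_iff_modEq.mpr he1).trans (pow_one a)
    exact mem_cz.mpr (e1 ▸ (mem_cz.mp hg).pow_right e)
  have hxy' : x * y ∉ Subgroup.center G := fun e => hx' (mem_center.mpr fun g => by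
    exact (mem_cz.mp (key x y hc hco (mem_cz.mpr (mem_center.mp e g).symm))).symm)
  rw [← h.eq_of_le hxy hx hxy' hx' (key x y hc hco)]
  refine h.eq_of_le hxy hy hxy' hy' ?_
  rw [hc.eq]
  exact key y x hc.symm hco.symm

/-- The Sylow subgroup of a centraliser is not central. -/
theorem exists_noncentral {x : G} (hx : Reg p x) (hx' : x ∉ Subgroup.center G) {q : ℕ}
    (hq : Pi G p q) : ∃ w, IsQ q w ∧ w ∉ Subgroup.center G ∧ Commute w x := by
  obtain ⟨hqp, hqne, y, hy, hy'⟩ := hq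
  haveI : Fact q.Prime := ⟨hqp⟩
  have hyr := hy.reg h.hp hqp hqne
  have hzy : IsPGroup q (Subgroup.zpowers (⟨y, mem_cz.mpr (Commute.refl y)⟩ : cz y)) := fun g => by
    obtain ⟨k, hk⟩ := hy
    obtain ⟨i, hi⟩ := Subgroup.mem_zpowers_iff.mp g.2
    refine ⟨k, Subtype.ext (Subtype.ext ?_)⟩
    simp only [Subgroup.coe_pow, Subgroup.coe_one, ← hi, Subgroup.coe_zpow]
    rw [← zpow_natCast, ← zpow_mul, mul_comm, zpow_mul, zpow_natCast, hk, one_zpow]
  obtain ⟨W, hW⟩ := hzy.exists_le_sylow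
  obtain ⟨U⟩ : Nonempty (Sylow q (cz x)) := inferInstance
  by_contra hcon
  push Not at hcon
  have hU : ∀ u : cz x, u ∈ (U : Subgroup (cz x)) → (u : G) ∈ Subgroup.center G := fun u hu =>
    by_contra fun hn => hcon u (IsQ.of_mem (U.isPGroup'.map (cz x).subtype) ⟨u, hu, rfl⟩) hn
      (mem_cz.mp u.2)
  -- the image of `U` inside `C(y)`
  set U' : Subgroup (cz y) := ((U : Subgroup (cz x)).map (cz x).subtype).subgroupOf (cz y)
  have hU'c : ∀ u ∈ U', ∀ g : cz y, Commute u g := fun u hu g => by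
    obtain ⟨v, hv, hvu⟩ := hu
    have := mem_center.mp (hU v hv) g
    rw [show (v : G) = (u : G) from hvu] at this
    exact Subtype.ext this.eq
  haveI : U'.Normal := ⟨fun u hu g => by rwa [← (hU'c u hu g).eq, mul_inv_cancel_right]⟩
  have hUle : (U : Subgroup (cz x)).map (cz x).subtype ≤ cz y := by
    rintro _ ⟨v, hv, rfl⟩
    exact mem_cz.mpr (mem_center.mp (hU v hv) y)
  have hU'p : IsPGroup q U' :=
    (U.isPGroup'.map (cz x).subtype).of_equiv (Subgroup.subgroupOfEquivOfLe hUle).symm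
  have hle : U' ≤ W := le_sup_right.trans
    (W.3 (W.isPGroup'.to_sup_of_normal_right hU'p) le_sup_left).le
  have hcard : Nat.card U' = Nat.card (W : Subgroup (cz y)) := by
    rw [Nat.card_congr (Subgroup.subgroupOfEquivOfLe hUle).toEquiv, Subgroup.card_subtype,
      Sylow.card_eq_multiplicity, Sylow.card_eq_multiplicity, h.card_eq x y hx hyr hx' hy']
  have hyW : (⟨y, mem_cz.mpr (Commute.refl y)⟩ : cz y) ∈ U' := by
    rw [Subgroup.eq_of_le_of_card_ge hle hcard.ge]
    exact hW (Subgroup.mem_zpowers _)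
  obtain ⟨v, hv, hvy⟩ := hyW
  exact hy' (by rw [show y = (v : G) from hvy.symm]; exact hU v hv)

theorem cz_eq_of_commute {q r : ℕ} (hq : Pi G p q) (hr : Pi G p r) (hqr : q ≠ r) {x y : G}
    (hx : Reg p x) (hy : Reg p y) (hx' : x ∉ Subgroup.center G) (hy' : y ∉ Subgroup.center G)
    (hc : Commute x y) : cz x = cz y := by
  obtain ⟨s, hs, hsp, n, hn, hn'⟩ := exists_part h.hp hx hx'
  obtain ⟨t, ht, htp, m, hm, hm'⟩ := exists_part h.hp hy hy'
  rw [← h.cz_pow hx hn', ← h.cz_pow hy hm']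
  have hc' : Commute (x ^ n) (y ^ m) := hc.pow_pow n m
  have hrx := hn.reg h.hp hs hsp
  have hry := hm.reg h.hp ht htp
  have co : ∀ {a b : G} {k l : ℕ}, k.Prime → l.Prime → k ≠ l → IsQ k a → IsQ l b →
      (orderOf a).Coprime (orderOf b) := fun {a b k l} hk hl hkl ha hb => by
    refine ha.coprime hk fun hd => ?_
    obtain ⟨j, hj⟩ := hb
    exact hkl ((Nat.prime_dvd_prime_iff_eq hk hl).mp
      (hk.dvd_of_dvd_pow (hd.trans (orderOf_dvd_of_pow_eq_one hj))))
  by_cases hst : s = t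
  · subst hst
    obtain ⟨o, ho, hos⟩ : ∃ o, Pi G p o ∧ o ≠ s := by
      by_cases e : q = s
      · exact ⟨r, hr, fun e' => hqr (e.trans e'.symm)⟩
      · exact ⟨q, hq, e⟩
    obtain ⟨w, hw, hw', hwx⟩ := h.exists_noncentral hrx hn' ho
    have hrw := hw.reg h.hp ho.1 ho.2.1
    have e1 := h.cz_eq_of_coprime hrw hrx hw' hn' hwx (co ho.1 hs hos hw hn)
    have hwy : Commute w (y ^ m) := (mem_cz.mp (e1.symm ▸ mem_cz.mpr hc'.symm :
      y ^ m ∈ cz w)).symm
    rw [← e1, h.cz_eq_of_coprime hrw hry hw' hm' hwy (co ho.1 hs hos hw hm)]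
  · exact h.cz_eq_of_coprime hrx hry hn' hm' hc' (co hs ht hst hn hm)

end Two

/-- `Two` with at least two relevant primes. -/
structure Two2 (G : Type*) [Group G] (p : ℕ) : Prop extends Two G p where
  two : ∃ q r, Pi G p q ∧ Pi G p r ∧ q ≠ r

namespace Two2

variable (h : Two2 G p)
include h

theorem cz_eq {x y : G} (hx : Reg p x) (hy : Reg p y) (hx' : x ∉ Subgroup.center G)
    (hy' : y ∉ Subgroup.center G) (hc : Commute x y) : cz x = cz y := by
  obtain ⟨q, r, hq, hr, hqr⟩ := h.two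
  exact h.toTwo.cz_eq_of_commute hq hr hqr hx hy hx' hy' hc

theorem other (q : ℕ) : ∃ r, Pi G p r ∧ r ≠ q := by
  obtain ⟨a, b, ha, hb, hab⟩ := h.two
  by_cases e : a = q
  · exact ⟨b, hb, fun e' => hab (e.trans e'.symm)⟩
  · exact ⟨a, ha, e⟩

theorem commute {x a b : G} (hx : Reg p x) (hx' : x ∉ Subgroup.center G) (ha : Reg p a)
    (hb : Reg p b) (hax : Commute a x) (hbx : Commute b x) : Commute a b := by
  by_cases ha' : a ∈ Subgroup.center G
  · exact mem_center.mp ha' b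
  · exact (mem_cz.mp ((h.cz_eq ha hx ha' hx' hax).symm ▸ mem_cz.mpr hbx)).symm

theorem mem_T {x : G} (hx : Reg p x) (hx' : x ∉ Subgroup.center G) {y : G} :
    y ∈ T p x ↔ Reg p y ∧ Commute y x := by
  refine ⟨fun hy => ?_, fun hy => Subgroup.subset_closure hy⟩
  refine (Subgroup.closure_le (K :=
    { carrier := {y : G | Reg p y ∧ Commute y x}
      one_mem' := ⟨by rw [Reg, orderOf_one]; exact Nat.coprime_one_left p, Commute.one_left x⟩
      mul_mem' := fun {a b} ha hb => ⟨Nat.Coprime.coprime_dvd_left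
        (h.commute hx hx' ha.1 hb.1 ha.2 hb.2).orderOf_mul_dvd_mul_orderOf
        (Nat.Coprime.mul_left ha.1 hb.1), ha.2.mul_left hb.2⟩
      inv_mem' := fun {a} ha => ⟨by rw [Reg, orderOf_inv]; exact ha.1, ha.2.inv_left⟩ })).mpr
    (fun a ha => ha) hy

theorem mem_Tq {x : G} (hx : Reg p x) (hx' : x ∉ Subgroup.center G) {q : ℕ} (hq : q.Prime)
    (hqp : q ≠ p) {y : G} : y ∈ Tq x q ↔ IsQ q y ∧ Commute y x := by
  refine ⟨fun hy => ?_, fun hy => Subgroup.subset_closure hy⟩
  refine (Subgroup.closure_le (K :=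
    { carrier := {y : G | IsQ q y ∧ Commute y x}
      one_mem' := ⟨IsQ.one q, Commute.one_left x⟩
      mul_mem' := fun {a b} ha hb => ⟨ha.1.mul hb.1 (h.commute hx hx' (ha.1.reg h.hp hq hqp)
        (hb.1.reg h.hp hq hqp) ha.2 hb.2), ha.2.mul_left hb.2⟩
      inv_mem' := fun {a} ha => ⟨ha.1.inv, ha.2.inv_left⟩ })).mpr
    (fun a ha => ha) hy

theorem commute_T {x a b : G} (hx : Reg p x) (hx' : x ∉ Subgroup.center G) (ha : a ∈ T p x)
    (hb : b ∈ T p x) : Commute a b :=
  h.commute hx hx' ((h.mem_T hx hx').mp ha).1 ((h.mem_T hx hx').mp hb).1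
    ((h.mem_T hx hx').mp ha).2 ((h.mem_T hx hx').mp hb).2

theorem center_le_T {x z : G} (hz : z ∈ Subgroup.center G) (hzr : Reg p z) : z ∈ T p x :=
  Subgroup.subset_closure ⟨hzr, mem_center.mp hz x⟩

theorem cz_of_mem {x t : G} (hx : Reg p x) (hx' : x ∉ Subgroup.center G) (ht : t ∈ T p x)
    (ht' : t ∉ Subgroup.center G) : cz t = cz x :=
  h.cz_eq ((h.mem_T hx hx').mp ht).1 hx ht' hx' ((h.mem_T hx hx').mp ht).2

theorem T_eq {x t : G} (hx : Reg p x) (hx' : x ∉ Subgroup.center G) (ht : t ∈ T p x)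
    (ht' : t ∉ Subgroup.center G) : T p t = T p x := by
  ext y
  rw [h.mem_T ((h.mem_T hx hx').mp ht).1 ht', h.mem_T hx hx', ← mem_cz, ← mem_cz,
    h.cz_of_mem hx hx' ht ht']

/-- An element of order prime to `p` commuting with a non-central element of `T` lies in `T`. -/
theorem mem_of_commute {x t g : G} (hx : Reg p x) (hx' : x ∉ Subgroup.center G) (ht : t ∈ T p x)
    (ht' : t ∉ Subgroup.center G) (hg : Reg p g) (hc : Commute g t) : g ∈ T p x := by
  rw [h.mem_T hx hx']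
  exact ⟨hg, mem_cz.mp (h.cz_of_mem hx hx' ht ht' ▸ mem_cz.mpr hc)⟩

/-- An element centralising a non-central element of `T` centralises `T`. -/
theorem commute_of_commute {x t v g : G} (hx : Reg p x) (hx' : x ∉ Subgroup.center G)
    (ht : t ∈ T p x) (ht' : t ∉ Subgroup.center G) (hv : v ∈ T p x) (hc : Commute g t) :
    Commute g v := by
  by_cases hv' : v ∈ Subgroup.center G
  · exact (mem_center.mp hv' g).symm
  · exact mem_cz.mp ((h.cz_of_mem hx hx' hv hv').trans (h.cz_of_mem hx hx' ht ht').symm ▸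
      mem_cz.mpr hc)

/-- An element moving a non-central element of `T` into `T` normalises `T`. -/
theorem conj_mem {x t g : G} (hx : Reg p x) (hx' : x ∉ Subgroup.center G) (ht : t ∈ T p x)
    (ht' : t ∉ Subgroup.center G) (hgt : g * t * g⁻¹ ∈ T p x) {v : G} (hv : v ∈ T p x) :
    g * v * g⁻¹ ∈ T p x := by
  refine h.mem_of_commute hx hx' hgt (fun e => ht' ?_) ?_ ?_
  · have := (inferInstance : (Subgroup.center G).Normal).conj_mem _ e g⁻¹
    simpa [mul_assoc] using this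
  · rw [Reg, ← MulAut.conj_apply, MulEquiv.orderOf_eq]
    exact ((h.mem_T hx hx').mp hv).1
  · exact (h.commute_T hx hx' hv ht).map (MulAut.conj g).toMonoidHom

theorem Tq_le_T {x : G} {q : ℕ} (hq : q.Prime) (hqp : q ≠ p) : Tq x q ≤ T p x :=
  Subgroup.closure_mono fun _ hy => ⟨hy.1.reg h.hp hq hqp, hy.2⟩

theorem isPGroup_Tq {x : G} (hx : Reg p x) (hx' : x ∉ Subgroup.center G) {q : ℕ} (hq : q.Prime)
    (hqp : q ≠ p) : IsPGroup q (Tq x q) := fun y => by
  obtain ⟨k, hk⟩ := ((h.mem_Tq hx hx' hq hqp).mp y.2).1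
  exact ⟨k, Subtype.ext hk⟩

theorem exists_mem_Tq {x : G} (hx : Reg p x) (hx' : x ∉ Subgroup.center G) {q : ℕ}
    (hq : Pi G p q) : ∃ w ∈ Tq x q, w ∉ Subgroup.center G := by
  obtain ⟨w, hw, hw', hc⟩ := h.toTwo.exists_noncentral hx hx' hq
  exact ⟨w, (h.mem_Tq hx hx' hq.1 hq.2.1).mpr ⟨hw, hc⟩, hw'⟩

/-- `Tq x q` has the order of a Sylow subgroup of the centraliser. -/
theorem card_Tq {x : G} (hx : Reg p x) (hx' : x ∉ Subgroup.center G) {q : ℕ} (hq : q.Prime)
    (hqp : q ≠ p) : Nat.card (Tq x q) = q ^ (Nat.card (cz x)).factorization q := by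
  haveI : Fact q.Prime := ⟨hq⟩
  obtain ⟨S⟩ : Nonempty (Sylow q (cz x)) := inferInstance
  have hle : (Tq x q) ≤ cz x := fun y hy => mem_cz.mpr ((h.mem_Tq hx hx' hq hqp).mp hy).2
  have hp' : IsPGroup q ((Tq x q).subgroupOf (cz x)) :=
    (h.isPGroup_Tq hx hx' hq hqp).of_equiv (Subgroup.subgroupOfEquivOfLe hle).symm
  rw [← S.card_eq_multiplicity]
  refine le_antisymm ?_ ?_
  · obtain ⟨S', hS'⟩ := hp'.exists_le_sylow
    rw [← Nat.card_congr (Subgroup.subgroupOfEquivOfLe hle).toEquiv, S.card_eq_multiplicity,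
      ← S'.card_eq_multiplicity]
    exact Subgroup.card_le_of_le hS'
  · rw [← Subgroup.card_subtype]
    refine Subgroup.card_le_of_le ?_
    rintro _ ⟨v, hv, rfl⟩
    exact (h.mem_Tq hx hx' hq hqp).mpr ⟨IsQ.of_mem (S.isPGroup'.map (cz x).subtype) ⟨v, hv, rfl⟩,
      mem_cz.mp v.2⟩

theorem card_Tq_eq {x y : G} (hx : Reg p x) (hx' : x ∉ Subgroup.center G) (hy : Reg p y)
    (hy' : y ∉ Subgroup.center G) {q : ℕ} (hq : q.Prime) (hqp : q ≠ p) :
    Nat.card (Tq x q) = Nat.card (Tq y q) := by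
  rw [h.card_Tq hx hx' hq hqp, h.card_Tq hy hy' hq hqp, h.card_eq x y hx hy hx' hy']

end Two2

end CfsgLib.ClassSize.TwoReg
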