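import Cfsg.Agent.Lib.ClassSize.TwoReg.Pair
import Cfsg.Agent.Lib.CharDeep.PrimePowerClass

/-!
# Two class sizes of elements of order prime to `p`: the conclusion

With exactly one bad prime some element of that prime has prime-power class size modulo the centre,
so it lies in a solvable normal subgroup, and this gives a contradiction.
-/

set_option autoImplicit false
set_option linter.style.haveILetI false

namespace CfsgLib.ClassSize.TwoReg

variable {G : Type*} [Group G] [Finite G] {p : ℕ}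

/-- The normal Hall subgroup for two primes when all other primary elements are central. -/
theorem single (hp : p.Prime) {q : ℕ} (hq : q.Prime) (hqp : q ≠ p)
    (hone : ∀ r, r.Prime → r ≠ p → r ≠ q → ∀ x : G, IsQ r x → x ∈ Subgroup.center G) :
    ∃ (q : ℕ) (_ : Fact q.Prime) (P : Sylow p G) (Q : Sylow q G) (A : Subgroup G), q ≠ p ∧
        A ≤ Subgroup.center G ∧
        Nat.card ↥((P : Subgroup G) ⊔ (Q : Subgroup G)) = Nat.card P * Nat.card Q ∧
        ((P : Subgroup G) ⊔ (Q : Subgroup G)).Normal ∧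
        ((P : Subgroup G) ⊔ (Q : Subgroup G)) ⊓ A = ⊥ ∧
        ((P : Subgroup G) ⊔ (Q : Subgroup G)) ⊔ A = ⊤ := by
  classical
  haveI : Fact p.Prime := ⟨hp⟩
  haveI : Fact q.Prime := ⟨hq⟩
  obtain ⟨P⟩ : Nonempty (Sylow p G) := inferInstance
  obtain ⟨Q⟩ : Nonempty (Sylow q G) := inferInstance
  let A : Subgroup G :=
    { carrier := {a | a ∈ Subgroup.center G ∧ (orderOf a).Coprime (p * q)}
      one_mem' := ⟨one_mem _, by rw [orderOf_one]; exact Nat.coprime_one_left _⟩
      mul_mem' := fun {a b} ha hb => ⟨mul_mem ha.1 hb.1, Nat.Coprime.coprime_dvd_left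
        (mem_center.mp ha.1 b).orderOf_mul_dvd_mul_orderOf (Nat.Coprime.mul_left ha.2 hb.2)⟩
      inv_mem' := fun {a} ha => ⟨inv_mem ha.1, by rw [orderOf_inv]; exact ha.2⟩ }
  haveI : A.Normal := ⟨fun a ha g => by
    rw [(mem_center.mp ha.1 g).symm.eq, mul_inv_cancel_right]; exact ha⟩
  have hcardA : (Nat.card A).Coprime (p * q) := by
    by_contra hcon
    obtain ⟨r, hr, hrA, hrpq⟩ := Nat.Prime.not_coprime_iff_dvd.mp hcon
    haveI : Fact r.Prime := ⟨hr⟩
    obtain ⟨a, ha⟩ := exists_prime_orderOf_dvd_card' (G := A) r hrA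
    rw [← Subgroup.orderOf_coe] at ha
    exact hr.ne_one (Nat.dvd_one.mp (a.2.2.gcd_eq_one ▸ Nat.dvd_gcd (ha ▸ dvd_rfl) hrpq))
  have hidx : ∀ r, r.Prime → r ∣ A.index → r = p ∨ r = q := by
    intro r hr hrd
    by_contra hne
    push Not at hne
    haveI : Fact r.Prime := ⟨hr⟩
    obtain ⟨R⟩ : Nonempty (Sylow r G) := inferInstance
    have hle : (R : Subgroup G) ≤ A := fun a ha => by
      have hQ := IsQ.of_mem R.isPGroup' ha
      refine ⟨hone r hr hne.1 hne.2 a hQ, hQ.coprime hr fun hd => ?_⟩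
      rcases (Nat.Prime.dvd_mul hr).mp hd with h1 | h1
      · exact hne.1 ((Nat.prime_dvd_prime_iff_eq hr hp).mp h1)
      · exact hne.2 ((Nat.prime_dvd_prime_iff_eq hr hq).mp h1)
    exact R.not_dvd_index (hrd.trans (Subgroup.index_dvd_of_le hle))
  have hco : (Nat.card A).Coprime A.index := by
    by_contra hcon
    obtain ⟨r, hr, hrA, hri⟩ := Nat.Prime.not_coprime_iff_dvd.mp hcon
    refine hr.ne_one (Nat.dvd_one.mp (hcardA.gcd_eq_one ▸ Nat.dvd_gcd hrA ?_))
    rcases hidx r hr hri with rfl | rfl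
    · exact dvd_mul_right _ _
    · exact dvd_mul_left _ _
  obtain ⟨H, hH⟩ := Subgroup.exists_right_complement'_of_coprime hco
  have hHcard : Nat.card H = A.index := hH.symm.index_eq_card.symm
  have hdec : ∀ g : G, ∃ a ∈ A, ∃ k ∈ H, a * k = g := fun g => by
    obtain ⟨⟨a, k⟩, hak⟩ := hH.2 g
    exact ⟨a, a.2, k, k.2, hak⟩
  haveI : H.Normal := ⟨fun n hn g => by
    obtain ⟨a, ha, k, hk, rfl⟩ := hdec g
    rw [show a * k * n * (a * k)⁻¹ = a * (k * n * k⁻¹) * a⁻¹ by group,
      (mem_center.mp ha.1 (k * n * k⁻¹)).eq, mul_inv_cancel_right]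
    exact mul_mem (mul_mem hk hn) (inv_mem hk)⟩
  have hmem : ∀ {r : ℕ} [Fact r.Prime] (R : Sylow r G), r = p ∨ r = q → (R : Subgroup G) ≤ H := by
    intro r hr R hrpq y hy
    obtain ⟨a, ha, k, hk, rfl⟩ := hdec y
    obtain ⟨n, hn⟩ := IsQ.of_mem R.isPGroup' hy
    rw [(mem_center.mp ha.1 k).mul_pow] at hn
    have h1 : a ^ r ^ n = 1 := Subgroup.mem_bot.mp
      (hH.disjoint.eq_bot.le (Subgroup.mem_inf.mpr ⟨pow_mem ha _, by
        rw [eq_inv_of_mul_eq_one_left hn]; exact inv_mem (pow_mem hk _)⟩))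
    have h2 : a = 1 := eq_one_of_coprime h1 (pow_orderOf_eq_one a) (Nat.Coprime.pow_left n (by
      rcases hrpq with rfl | rfl
      · exact (ha.2.coprime_dvd_right (dvd_mul_right _ _)).symm
      · exact (ha.2.coprime_dvd_right (dvd_mul_left _ _)).symm))
    rwa [h2, one_mul]
  have hcard : Nat.card ((P : Subgroup G) ⊔ (Q : Subgroup G) : Subgroup G) ≥
      Nat.card P * Nat.card Q := by
    refine Nat.le_of_dvd Nat.card_pos (Nat.Coprime.mul_dvd_of_dvd_of_dvd ?_
      (Subgroup.card_dvd_of_le le_sup_left) (Subgroup.card_dvd_of_le le_sup_right))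
    obtain ⟨i, hi⟩ := P.isPGroup'.exists_card_eq
    obtain ⟨j, hj⟩ := Q.isPGroup'.exists_card_eq
    rw [hi, hj]
    exact Nat.coprime_pow_primes _ _ hp hq hqp.symm
  have hHle : Nat.card H ≤ Nat.card P * Nat.card Q := by
    refine Nat.le_of_dvd (Nat.mul_pos Nat.card_pos Nat.card_pos)
      ((Nat.dvd_iff_prime_pow_dvd_dvd _ _).mpr fun r k hr hd => ?_)
    rcases Nat.eq_zero_or_pos k with rfl | hk
    · simp
    have hrG : r ^ k ∣ Nat.card G := hd.trans H.card_subgroup_dvd_card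
    rcases hidx r hr ((dvd_pow_self r hk.ne').trans (hHcard ▸ hd)) with rfl | rfl
    · exact (P.pow_dvd_card_of_pow_dvd_card hrG).trans (dvd_mul_right _ _)
    · exact (Q.pow_dvd_card_of_pow_dvd_card hrG).trans (dvd_mul_left _ _)
  have heq : ((P : Subgroup G) ⊔ (Q : Subgroup G)) = H :=
    Subgroup.eq_of_le_of_card_ge (sup_le (hmem P (Or.inl rfl)) (hmem Q (Or.inr rfl)))
      (hHle.trans hcard)
  refine ⟨q, ‹_›, P, Q, A, hqp, fun a ha => ha.1, ?_, ?_, ?_, ?_⟩
  · exact le_antisymm (heq ▸ hHle) hcard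
  · rw [heq]; infer_instance
  · rw [heq, inf_comm]; exact hH.disjoint.eq_bot
  · rw [heq, sup_comm]; exact hH.sup_eq_top

theorem not_dvd_index {C S : Subgroup G} {s : ℕ} (hs : s.Prime) (hle : S ≤ C)
    (hcard : Nat.card S = s ^ (Nat.card G).factorization s) : ¬ s ∣ C.index := by
  intro hd
  have h1 : s ^ ((Nat.card G).factorization s + 1) ∣ Nat.card G := by
    rw [pow_succ, ← hcard]
    conv_rhs => rw [← C.card_mul_index]
    exact Nat.mul_dvd_mul (Subgroup.card_dvd_of_le hle) hd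
  exact Nat.pow_succ_factorization_not_dvd Nat.card_pos.ne' hs h1

namespace Two2

variable (h : Two2 G p)
include h

theorem full_of_not_bad {r : ℕ} (hr : Pi G p r) (hb : ¬ Bad G p r) {x : G} (hx : Reg p x)
    (hx' : x ∉ Subgroup.center G) :
    Nat.card (Tq x r) = r ^ (Nat.card G).factorization r := by
  rw [Bad, not_and] at hb
  have := hb hr
  push Not at this
  obtain ⟨y, hy, hy', hle⟩ := this
  rw [h.card_Tq hx hx' hr.1 hr.2.1, h.card_eq x y hx hy hx' hy']
  refine congrArg (r ^ ·) (le_antisymm ?_ hle)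
  exact (Nat.factorization_le_iff_dvd Nat.card_pos.ne' Nat.card_pos.ne').mpr
    (cz y).card_subgroup_dvd_card r

/-- One bad prime is impossible. -/
theorem no_bad {q : ℕ} : ¬ Bad G p q := by
  classical
  intro hb
  obtain ⟨hq, hqp, -⟩ := hb.1
  haveI : Fact q.Prime := ⟨hq⟩
  have hfull : ∀ r, Pi G p r → r ≠ q → ¬ Bad G p r := fun r _ hne hbr => hne (h.bad_unique hbr hb)
  obtain ⟨Q, u, huQ, hu', huq, hcomm⟩ := h.exists_second hb
  have hur := (IsQ.of_mem Q.isPGroup' huQ).reg h.hp hq hqp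
  let π := QuotientGroup.mk' (Subgroup.center G)
  -- the class of `u` modulo the centre has prime power size
  set C := (Subgroup.centralizer ({π u} : Set (G ⧸ Subgroup.center G))).comap π with hC
  have hmemC : ∀ g : G, g * u * g⁻¹ * u⁻¹ ∈ Subgroup.center G → g ∈ C := fun g hg => by
    rw [hC, Subgroup.mem_comap, Subgroup.mem_centralizer_singleton_iff]
    exact (commute_mk hg).eq
  have hmemC' : ∀ g : G, Commute g u → g ∈ C := fun g hg => hmemC g (by
    rw [hg.eq, mul_inv_cancel_right, mul_inv_cancel]; exact one_mem _)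
  have hnd : ∀ s, s.Prime → s ≠ p → ¬ s ∣ C.index := by
    intro s hs hsp
    haveI : Fact s.Prime := ⟨hs⟩
    by_cases hsq : s = q
    · subst hsq
      exact not_dvd_index hs (fun g hg => hmemC g (hcomm g hg)) Q.card_eq_multiplicity
    by_cases hspi : Pi G p s
    · exact not_dvd_index hs (fun g hg => hmemC' g ((h.mem_Tq hur hu' hs hsp).mp hg).2)
        (h.full_of_not_bad hspi (hfull s hspi hsq) hur hu')
    · obtain ⟨S⟩ : Nonempty (Sylow s G) := inferInstance
      refine not_dvd_index hs (fun g hg => hmemC' g ?_) S.card_eq_multiplicity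
      by_contra hgu
      exact hspi ⟨hs, hsp, g, IsQ.of_mem S.isPGroup' hg, fun e => hgu (mem_center.mp e u)⟩
  have hpow : (Subgroup.centralizer ({π u} : Set (G ⧸ Subgroup.center G))).index =
      p ^ C.index.primeFactorsList.length := by
    rw [← Subgroup.index_comap_of_surjective _ (QuotientGroup.mk'_surjective _), ← hC]
    exact Nat.eq_prime_pow_of_unique_prime_dvd Subgroup.index_ne_zero_of_finite fun {d} hd hdd =>
      by_contra fun hne => hnd d hd hne hdd
  haveI hsolN := CfsgLib.CharDeep.PrimePowerClass.isSolvable_normalClosure (π u) h.hp _ hpow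
  set N0 := Subgroup.normalClosure ({π u} : Set (G ⧸ Subgroup.center G))
  set M := N0.comap π with hM
  haveI : M.Normal := by rw [hM]; infer_instance
  have huM : u ∈ M := Subgroup.subset_normalClosure (Set.mem_singleton _)
  haveI hMs : Group.IsSolvable M := by
    let f : M →* N0 := π.subgroupComap N0
    haveI : Group.IsSolvable f.ker := Group.isSolvable_of_comm fun a b => Subtype.ext (Subtype.ext (by
      have ha : ((a : M) : G) ∈ Subgroup.center G :=
        (QuotientGroup.eq_one_iff _).mp (congrArg Subtype.val (a.2 : f (a : M) = 1))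
      exact (mem_center.mp ha _).eq))
    exact Group.isSolvable_of_ker_le_range f.ker.subtype f (by rw [Subgroup.range_subtype])
  -- the largest normal `p`-subgroup inside `M`
  obtain ⟨V, -, hV⟩ := Finite.exists_le_maximal
    (p := fun K : Subgroup G => K.Normal ∧ IsPGroup p K ∧ K ≤ M)
    (show (⊥ : Subgroup G).Normal ∧ IsPGroup p (⊥ : Subgroup G) ∧ ⊥ ≤ M from
      ⟨inferInstance, IsPGroup.of_bot, bot_le⟩)
  haveI := hV.prop.1
  have hVp : IsPGroup p V := hV.prop.2.1
  have hVmax : ∀ K : Subgroup G, K.Normal → IsPGroup p K → K ≤ M → K ≤ V := fun K hK hKp hKM => by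
    haveI := hK
    exact le_sup_right.trans (hV.2 ⟨inferInstance, hVp.to_sup_of_normal_right hKp,
      sup_le hV.prop.2.2 hKM⟩ le_sup_left)
  obtain ⟨N, hNle, hN⟩ := Finite.exists_le_minimal
    (p := fun K : Subgroup G => K.Normal ∧ V ≤ K ∧ K ≤ M ∧ ∃ y ∈ K, Reg p y ∧ y ∉ Subgroup.center G)
    (show M.Normal ∧ V ≤ M ∧ M ≤ M ∧ ∃ y ∈ M, Reg p y ∧ y ∉ Subgroup.center G from
      ⟨inferInstance, hV.prop.2.2, le_rfl, u, huM, hur, hu'⟩)
  obtain ⟨hNn, hVN, hNM, y0, hy0, hy0r, hy0'⟩ := hN.prop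
  haveI := hNn
  haveI : Group.IsSolvable N := Group.isSolvable_of_isSolvable_injective
    (f := Subgroup.inclusion hNM) (Subgroup.inclusion_injective hNM)
  have hregV : ∀ y ∈ V, Reg p y → y = 1 := fun y hy hyr => by
    obtain ⟨k, hk⟩ := IsQ.of_mem hVp hy
    exact eq_one_of_coprime hk (pow_orderOf_eq_one y) (Nat.Coprime.pow_left k hyr.symm)
  -- the derived subgroup together with `V`
  set N1 := ⁅N, N⁆ ⊔ V with hN1
  haveI : N1.Normal := inferInstance
  have hN1le : N1 ≤ N := sup_le (Subgroup.commutator_le_left N N) hVN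
  have hN1ne : N1 ≠ N := by
    intro e
    haveI : (V.subgroupOf N).Normal := inferInstance
    let φ := QuotientGroup.mk' (V.subgroupOf N)
    haveI : Group.IsSolvable (N ⧸ V.subgroupOf N) :=
      Group.isSolvable_of_surjective (f := φ) (QuotientGroup.mk'_surjective _)
    haveI : Nontrivial (N ⧸ V.subgroupOf N) := ⟨φ ⟨y0, hy0⟩, 1, fun e' => hy0' (by
      rw [hregV y0 ((QuotientGroup.eq_one_iff _).mp e' : _ ∈ V.subgroupOf N) hy0r]
      exact one_mem _)⟩
    refine (Group.IsSolvable.commutator_lt_top_of_nontrivial (N ⧸ V.subgroupOf N)).ne ?_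
    have htop : commutator N ⊔ V.subgroupOf N = ⊤ := by
      refine Subgroup.map_injective N.subtype_injective ?_
      rw [Subgroup.map_sup, Subgroup.map_subtype_commutator, Subgroup.map_subgroupOf_eq_of_le hVN,
        ← MonoidHom.range_eq_map, Subgroup.range_subtype]
      exact e
    have := congrArg (Subgroup.map φ) htop
    rw [Subgroup.map_sup, QuotientGroup.map_mk'_self, sup_bot_eq, commutator_def,
      Subgroup.map_commutator, Subgroup.map_top_of_surjective φ (QuotientGroup.mk'_surjective _)] at this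
    exact this
  have hcen1 : ∀ y ∈ N1, Reg p y → y ∈ Subgroup.center G := fun y hy hyr => by_contra fun hy' =>
    hN1ne (le_antisymm hN1le (hN.2 ⟨inferInstance, le_sup_right, hN1le.trans hNM, y, hy, hyr, hy'⟩
      hN1le))
  set B := V ⊔ Subgroup.center G with hBdef
  haveI : B.Normal := inferInstance
  have hN1B : N1 ≤ B := by
    haveI : Fact p.Prime := ⟨h.hp⟩
    let f : N1 →* N1.map π := π.subgroupMap N1
    have hker : f.ker ≤ Subgroup.center N1 := fun a ha => Subgroup.mem_center_iff.mpr fun b =>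
      Subtype.ext ((mem_center.mp ((QuotientGroup.eq_one_iff (a : G)).mp
        (congrArg Subtype.val (ha : f a = 1))) b).symm.eq)
    have hp' : IsPGroup p (N1.map π) := by
      rintro ⟨_, a, ha, rfl⟩
      obtain ⟨k, m, hm, ho⟩ := Nat.exists_eq_pow_mul_and_not_dvd (orderOf_pos a).ne' p h.hp.ne_one
      refine ⟨k, Subtype.ext ?_⟩
      show π a ^ p ^ k = 1
      rw [← map_pow]
      refine (QuotientGroup.eq_one_iff _).mpr (hcen1 _ (pow_mem ha _) ?_)
      refine Nat.Coprime.coprime_dvd_left (orderOf_dvd_of_pow_eq_one (n := m) ?_)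
        ((h.hp.coprime_iff_not_dvd.mpr hm).symm)
      rw [← pow_mul, ← ho, pow_orderOf_eq_one]
    haveI := hp'.isNilpotent
    haveI : Group.IsNilpotent N1 := Subgroup.isNilpotent_of_ker_le_center f hker
    obtain ⟨S⟩ : Nonempty (Sylow p N1) := inferInstance
    haveI : (S : Subgroup N1).Normal :=
      ((Group.isNilpotent_of_finite_tfae (G := N1)).out 0 3 rfl rfl).mp inferInstance p inferInstance S
    haveI := S.characteristic_of_normal inferInstance
    have hSV : (S : Subgroup N1).map N1.subtype ≤ V :=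
      hVmax _ inferInstance (S.isPGroup'.map _) ((Subgroup.map_subtype_le _).trans (hN1le.trans hNM))
    intro y hy
    obtain ⟨k, m, hm, ho⟩ := Nat.exists_eq_pow_mul_and_not_dvd (orderOf_pos y).ne' p h.hp.ne_one
    obtain ⟨e1, he1, he2⟩ := Nat.chineseRemainder
      ((Nat.Coprime.pow_left k (h.hp.coprime_iff_not_dvd.mpr hm)) : (p ^ k).Coprime m) 1 0
    -- `y ^ e1` is a `p`-element and the rest is central
    have h1 : y ^ e1 ∈ V := by
      refine hSV ⟨(⟨y, hy⟩ : N1) ^ e1, ?_, rfl⟩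
      have hz : IsPGroup p (Subgroup.zpowers ((⟨y, hy⟩ : N1) ^ e1)) := fun a => by
        obtain ⟨i, hi⟩ := Subgroup.mem_zpowers_iff.mp a.2
        refine ⟨k, Subtype.ext ?_⟩
        rw [Subgroup.coe_pow, ← hi, ← zpow_natCast, ← zpow_mul, mul_comm, zpow_mul, zpow_natCast,
          ← pow_mul]
        rw [show (⟨y, hy⟩ : N1) ^ (e1 * p ^ k) = 1 from Subtype.ext (by
          rw [Subgroup.coe_pow, Subgroup.coe_one, ← orderOf_dvd_iff_pow_eq_one, ho, mul_comm e1]
          exact Nat.mul_dvd_mul_left _ (Nat.modEq_zero_iff_dvd.mp he2)), one_zpow]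
        rfl
      obtain ⟨S', hS'⟩ := hz.exists_le_sylow
      haveI := Sylow.unique_of_normal S inferInstance
      rw [show S = S' from Subsingleton.elim _ _]
      exact hS' (Subgroup.mem_zpowers _)
    have h2 : y * (y ^ e1)⁻¹ ∈ Subgroup.center G := by
      refine hcen1 _ (mul_mem hy (inv_mem (pow_mem hy _))) (Nat.Coprime.coprime_dvd_left
        (orderOf_dvd_of_pow_eq_one (n := m) ?_) ((h.hp.coprime_iff_not_dvd.mpr hm).symm))
      rw [((Commute.refl y).pow_right e1).inv_right.mul_pow, inv_pow, ← pow_mul, mul_inv_eq_one,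
        pow_eq_pow_iff_modEq, ho]
      have := Nat.ModEq.mul_right' m he1
      rw [one_mul] at this
      exact this.symm
    have := mul_mem (Subgroup.mem_sup_right h2 : _ ∈ B) (Subgroup.mem_sup_left h1 : _ ∈ B)
    rwa [inv_mul_cancel_right] at this
  -- a prime with a non-central element in `N`
  obtain ⟨s, hs, hsp, n0, hws, hwc⟩ := exists_part h.hp hy0r hy0'
  set w := y0 ^ n0
  haveI : Fact s.Prime := ⟨hs⟩
  have hspi : Pi G p s := ⟨hs, hsp, w, hws, hwc⟩
  have hwr := hws.reg h.hp hs hsp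
  have hNB : ∀ a ∈ N, ∀ b ∈ N, Commute (a : G ⧸ B) (b : G ⧸ B) := fun a ha b hb' => by
    have e : ((a * b * a⁻¹ * b⁻¹ : G) : G ⧸ B) = 1 := (QuotientGroup.eq_one_iff _).mpr
      (hN1B ((le_sup_left : _ ≤ N1) (Subgroup.commutator_mem_commutator ha hb')))
    simp only [QuotientGroup.mk_mul, QuotientGroup.mk_inv] at e
    exact mul_inv_eq_iff_eq_mul.mp (mul_inv_eq_one.mp e)
  let L : Subgroup G :=
    { carrier := {y | y ∈ N ∧ IsQ s (y : G ⧸ B)}
      one_mem' := ⟨one_mem _, IsQ.one s⟩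
      mul_mem' := fun {a b} ha hb' => ⟨mul_mem ha.1 hb'.1, ha.2.mul hb'.2 (hNB a ha.1 b hb'.1)⟩
      inv_mem' := fun {a} ha => ⟨inv_mem ha.1, ha.2.inv⟩ }
  haveI hLn : L.Normal := ⟨fun a ha g => ⟨hNn.conj_mem a ha.1 g, ha.2.conj (g : G ⧸ B)⟩⟩
  have hwL : w ∈ L := ⟨pow_mem hy0 _, by
    obtain ⟨k, hk⟩ := hws
    exact ⟨k, by rw [← QuotientGroup.mk_pow, hk]; rfl⟩⟩
  have hzw : IsPGroup s (Subgroup.zpowers (⟨w, hwL⟩ : L)) := fun a => by
    obtain ⟨k, hk⟩ := hws
    obtain ⟨i, hi⟩ := Subgroup.mem_zpowers_iff.mp a.2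
    refine ⟨k, Subtype.ext ?_⟩
    rw [Subgroup.coe_pow, ← hi, ← zpow_natCast, ← zpow_mul, mul_comm, zpow_mul, zpow_natCast,
      show (⟨w, hwL⟩ : L) ^ s ^ k = 1 from Subtype.ext hk, one_zpow]
    rfl
  obtain ⟨S, hS⟩ := hzw.exists_le_sylow
  set S' := (S : Subgroup L).map L.subtype with hS'def
  have hwS : w ∈ S' := ⟨⟨w, hwL⟩, hS (Subgroup.mem_zpowers _), rfl⟩
  have hS's : IsPGroup s S' := S.isPGroup'.map _
  have hS'L : S' ≤ L := Subgroup.map_subtype_le _
  have hLS : L ≤ S' ⊔ B := by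
    rintro a ⟨haN, ⟨k, hk⟩⟩
    obtain ⟨i, m, hm, ho⟩ := Nat.exists_eq_pow_mul_and_not_dvd (orderOf_pos a).ne' s hs.ne_one
    obtain ⟨e1, he1, he2⟩ := Nat.chineseRemainder
      ((Nat.Coprime.pow_left i (hs.coprime_iff_not_dvd.mpr hm)) : (s ^ i).Coprime m) 1 0
    have haL0 : a ∈ L := ⟨haN, k, hk⟩
    have haL : a ^ e1 ∈ L := pow_mem haL0 _
    have hz : IsPGroup s (Subgroup.zpowers (⟨a ^ e1, haL⟩ : L)) := fun b => by
      obtain ⟨j, hj⟩ := Subgroup.mem_zpowers_iff.mp b.2
      refine ⟨i, Subtype.ext ?_⟩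
      rw [Subgroup.coe_pow, ← hj, ← zpow_natCast, ← zpow_mul, mul_comm, zpow_mul, zpow_natCast,
        show (⟨a ^ e1, haL⟩ : L) ^ s ^ i = 1 from Subtype.ext (by
          rw [Subgroup.coe_pow, Subgroup.coe_one, ← pow_mul, ← orderOf_dvd_iff_pow_eq_one, ho,
            mul_comm e1]
          exact Nat.mul_dvd_mul_left _ (Nat.modEq_zero_iff_dvd.mp he2)), one_zpow]
      rfl
    obtain ⟨S2, hS2⟩ := hz.exists_le_sylow
    obtain ⟨l, rfl⟩ := MulAction.exists_smul_eq L S S2
    obtain ⟨t, ht, hta⟩ := (hS2 (Subgroup.mem_zpowers _) : (⟨a ^ e1, haL⟩ : L) ∈ _)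
    have hta' : (l : G) * (t : G) * (l : G)⁻¹ = a ^ e1 := congrArg Subtype.val hta
    have h1 : a ^ e1 ∈ S' ⊔ B := by
      rw [← hta', show (l : G) * t * (l : G)⁻¹ = ((l : G) * t * (l : G)⁻¹ * (t : G)⁻¹) * t by group]
      exact mul_mem (Subgroup.mem_sup_right (hN1B ((le_sup_left : _ ≤ N1)
        (Subgroup.commutator_mem_commutator l.2.1 t.2.1)))) (Subgroup.mem_sup_left ⟨t, ht, rfl⟩)
    have h2 : a * (a ^ e1)⁻¹ ∈ B := by
      rw [← QuotientGroup.eq_one_iff]
      refine eq_one_of_coprime (a := s ^ k) (b := m) ?_ ?_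
        (Nat.Coprime.pow_left k (hs.coprime_iff_not_dvd.mpr hm))
      · rw [QuotientGroup.mk_mul, QuotientGroup.mk_inv, QuotientGroup.mk_pow,
          ((Commute.refl (a : G ⧸ B)).pow_right e1).inv_right.mul_pow, inv_pow, hk, one_mul,
          ← pow_mul, mul_comm, pow_mul, hk, one_pow, inv_one]
      · rw [← QuotientGroup.mk_pow, ((Commute.refl a).pow_right e1).inv_right.mul_pow, inv_pow,
          ← pow_mul]
        refine (QuotientGroup.eq_one_iff _).mpr ?_
        have e3 : a ^ m = a ^ (e1 * m) := by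
          rw [pow_eq_pow_iff_modEq, ho]
          have := Nat.ModEq.mul_right' m he1
          rw [one_mul] at this
          exact this.symm
        rw [← e3, mul_inv_cancel]
        exact one_mem _
    have := mul_mem (Subgroup.mem_sup_right h2 : _ ∈ S' ⊔ B) h1
    rwa [inv_mul_cancel_right] at this
  have hcenN : Subgroup.center G ≤ Subgroup.normalizer (S' : Set G) := fun c hc =>
    Subgroup.mem_normalizer_iff.mpr fun a => by rw [(mem_center.mp hc a).eq, mul_inv_cancel_right]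
  have hG : Subgroup.normalizer (S' : Set G) ⊔ V = ⊤ := by
    refine top_le_iff.mp ((Sylow.normalizer_sup_eq_top S).ge.trans (sup_le le_sup_left (hLS.trans ?_)))
    exact sup_le (Subgroup.le_normalizer.trans le_sup_left)
      (sup_le le_sup_right (hcenN.trans le_sup_left))
  have hwT : w ∈ T p w := (h.mem_T hwr hwc).mpr ⟨hwr, Commute.refl w⟩
  -- if `S'` is abelian as required we are done
  have caseA : ¬ S' ≤ T p w := by
    intro hST
    obtain ⟨g, hgq, hgn, hgT⟩ := h.exists_normalizing hwr hwc hb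
    obtain ⟨hW, hgcen⟩ := h.pow_mem_center hwr hwc hb hgq hgn hgT
    obtain ⟨r, hr, hrq⟩ := h.other q
    haveI : Fact r.Prime := ⟨hr.1⟩
    have hgr := hgq.reg h.hp hq hqp
    have hg' : g ∉ Subgroup.center G := fun e => hgT (h.center_le_T e hgr)
    let R1 : Sylow r G := Sylow.ofCard (Tq w r) (h.full_of_not_bad hr (hfull r hr hrq) hwr hwc)
    let R2 : Sylow r G := Sylow.ofCard (Tq g r) (h.full_of_not_bad hr (hfull r hr hrq) hgr hg')
    obtain ⟨k, hk⟩ := MulAction.exists_smul_eq G R1 R2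
    obtain ⟨t0, ht0, ht0'⟩ := h.exists_mem_Tq hwr hwc hr
    have hkt : k * t0 * k⁻¹ ∈ Tq g r := by
      have hm : k * t0 * k⁻¹ ∈ ((k • R1 : Sylow r G) : Subgroup G) :=
        ⟨t0, ht0, rfl⟩
      rw [hk] at hm
      exact hm
    have hkgt : Commute (k⁻¹ * g * k) t0 := by
      have hc := (((h.mem_Tq hgr hg' hr.1 hr.2.1).mp hkt).2).symm.map (MulAut.conj k⁻¹).toMonoidHom
      simpa [mul_assoc] using hc
    have hkg : k⁻¹ * g * k ∈ T p w := by
      refine h.mem_of_commute hwr hwc (h.Tq_le_T hr.1 hr.2.1 ht0) ht0' ?_ hkgt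
      have := (hgq.conj k⁻¹).reg h.hp hq hqp
      rwa [inv_inv] at this
    obtain ⟨v, hv, n, hn, hvn⟩ : ∃ v ∈ V, ∃ n ∈ Subgroup.normalizer (S' : Set G), v * n = k := by
      have hk' : k ∈ (↑(V ⊔ Subgroup.normalizer (S' : Set G)) : Set G) := by
        rw [sup_comm, hG]; exact Subgroup.mem_top k
      rw [Subgroup.normal_mul] at hk'
      exact hk'
    have hnn : Norm p w n := h.norm_of_one hwr hwc hwT hwc
      (hST ((Subgroup.mem_normalizer_iff.mp hn w).mp hwS))
    have htT : v⁻¹ * g * v ∈ T p w := by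
      have := hnn _ hkg
      rw [← hvn] at this
      simpa [mul_assoc] using this
    set t := v⁻¹ * g * v with ht
    have htq : t ∈ Tq w q := by
      refine (h.mem_Tq hwr hwc hq hqp).mpr ⟨?_, ((h.mem_T hwr hwc).mp htT).2⟩
      have := hgq.conj v⁻¹
      rwa [inv_inv] at this
    have h1 : g * t⁻¹ ∈ V := by
      rw [show g * t⁻¹ = v * (t * v⁻¹ * t⁻¹) by rw [ht]; group]
      exact mul_mem hv (hV.prop.1.conj_mem _ (inv_mem hv) t)
    have h2 : IsQ q (g * t⁻¹) := IsQ.of_mem hW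
      (mul_mem (Subgroup.mem_sup_right (Subgroup.mem_zpowers g)) (Subgroup.mem_sup_left (inv_mem htq)))
    have h3 := hregV _ h1 (h2.reg h.hp hq hqp)
    exact hgT (by rw [mul_inv_eq_one.mp h3]; exact htT)
  by_cases hsq : s = q
  · subst hsq
    haveI : Group.IsNilpotent S' := hS's.isNilpotent
    have hlt : (T p w).subgroupOf S' < ⊤ := lt_top_iff_ne_top.mpr fun e =>
      caseA (Subgroup.subgroupOf_eq_top.mp e)
    obtain ⟨⟨g, hgS⟩, hgn', hgT⟩ := SetLike.exists_of_lt (normalizerCondition_of_isNilpotent _ hlt)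
    have hgT' : g ∉ T p w := hgT
    have hgn : Norm p w g := h.norm_of_one hwr hwc hwT hwc
      ((Subgroup.mem_normalizer_iff.mp hgn' ⟨w, hwS⟩).mp hwT : g * w * g⁻¹ ∈ T p w)
    have hgq : IsQ s g := IsQ.of_mem hS's hgS
    obtain ⟨-, hgcen⟩ := h.pow_mem_center hwr hwc hb hgq hgn hgT'
    obtain ⟨r, hr, hrq⟩ := h.other s
    obtain ⟨y, hy, hy'⟩ := h.exists_mem_Tq hwr hwc hr
    set c := g * y * g⁻¹ * y⁻¹ with hcdef
    have hcr : IsQ r c := by
      have := mul_mem (h.norm_Tq hwr hwc hr.1 hr.2.1 hgn hy) (inv_mem hy)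
      exact ((h.mem_Tq hwr hwc hr.1 hr.2.1).mp this).1
    obtain ⟨k, hk⟩ := hcr
    have hcB : c ∈ B := by
      have hcL : c ∈ L := by
        rw [hcdef, show g * y * g⁻¹ * y⁻¹ = g * (y * g⁻¹ * y⁻¹) by group]
        exact mul_mem (hS'L hgS) (hLn.conj_mem _ (inv_mem (hS'L hgS)) y)
      obtain ⟨j, hj⟩ := hcL.2
      rw [← QuotientGroup.eq_one_iff]
      refine eq_one_of_coprime hj (b := r ^ k) ?_
        (Nat.coprime_pow_primes _ _ hs hr.1 (Ne.symm hrq))
      rw [← QuotientGroup.mk_pow, hk]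
      rfl
    have hcc : c ∈ Subgroup.center G := by
      have hm : c ∈ (↑(V ⊔ Subgroup.center G) : Set G) := hcB
      rw [Subgroup.normal_mul] at hm
      obtain ⟨v, hv, z, hz, hvz⟩ := hm
      have hvz' : v * z = c := hvz
      obtain ⟨i, hi⟩ := IsQ.of_mem hVp hv
      rw [← QuotientGroup.eq_one_iff]
      refine eq_one_of_coprime (a := p ^ i) (b := r ^ k) ?_ ?_
        (Nat.coprime_pow_primes _ _ h.hp hr.1 hr.2.1.symm)
      · rw [← hvz', QuotientGroup.mk_mul, (QuotientGroup.eq_one_iff z).mpr hz, mul_one,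
          ← QuotientGroup.mk_pow, hi]
        rfl
      · rw [← QuotientGroup.mk_pow, hk]
        rfl
    have hc1 : c = 1 := eq_one_of_coprime (a := s) (b := r ^ k)
      (pow_eq_one_of_center (g := g) (u := y) hcc (by rw [hcdef]; group) (mem_center.mp hgcen y)) hk
      (Nat.Coprime.pow_right k ((Nat.coprime_primes hs hr.1).mpr hrq.symm))
    exact hgT' (h.mem_of_commute hwr hwc (h.Tq_le_T hr.1 hr.2.1 hy) hy' (hgq.reg h.hp hs hsp)
      (commute_of_conj_eq (c := c) (by rw [hcdef]; group) hc1))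
  · refine caseA fun a ha => ?_
    obtain ⟨S2, hS2⟩ := hS's.exists_le_sylow
    let S1 : Sylow s G := Sylow.ofCard (Tq u s) (h.full_of_not_bad hspi (hfull s hspi hsq) hur hu')
    obtain ⟨k, rfl⟩ := MulAction.exists_smul_eq G S1 S2
    obtain ⟨a', ha', hka⟩ := hS2 ha
    obtain ⟨w', hw', hkw⟩ := hS2 hwS
    refine (h.mem_T hwr hwc).mpr ⟨(IsQ.of_mem hS's ha).reg h.hp hs hsp, ?_⟩
    rw [← hka, ← hkw]
    exact (h.commute_T hur hu' (h.Tq_le_T hs hsp ha') (h.Tq_le_T hs hsp hw')).map _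

/-- All primes being good, the centraliser part is an abelian `p`-complement. -/
theorem complement : ∃ H : Subgroup G, IsMulCommutative H ∧ ¬ p ∣ Nat.card H ∧
    ∃ k : ℕ, H.index = p ^ k := by
  classical
  obtain ⟨q, r, ⟨hq, hqp, x, hx, hx'⟩, -⟩ := h.two
  have hxr := hx.reg h.hp hq hqp
  refine ⟨T p x, ⟨⟨fun a b => Subtype.ext (h.commute_T hxr hx' a.2 b.2).eq⟩⟩, fun hd => ?_, _,
    Nat.eq_prime_pow_of_unique_prime_dvd Subgroup.index_ne_zero_of_finite fun {d} hd hdd => ?_⟩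
  · haveI : Fact p.Prime := ⟨h.hp⟩
    obtain ⟨a, ha⟩ := exists_prime_orderOf_dvd_card' (G := T p x) p hd
    have := ((h.mem_T hxr hx').mp a.2).1
    rw [Reg, Subgroup.orderOf_coe, ha, Nat.coprime_self] at this
    exact h.hp.ne_one this
  · by_contra hne
    haveI : Fact d.Prime := ⟨hd⟩
    by_cases hpi : Pi G p d
    · exact not_dvd_index hd (h.Tq_le_T hd hne) (h.full_of_not_bad hpi h.no_bad hxr hx') hdd
    · obtain ⟨S⟩ : Nonempty (Sylow d G) := inferInstance
      refine not_dvd_index hd (fun g hg => ?_) S.card_eq_multiplicity hdd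
      have hgq := IsQ.of_mem S.isPGroup' hg
      exact h.center_le_T (by_contra fun hgc => hpi ⟨hd, hne, g, hgq, hgc⟩) (hgq.reg h.hp hd hne)

end Two2

end CfsgLib.ClassSize.TwoReg
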