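import Cfsg.Agent.Lib.ClassSize.TwoReg.Bad

/-!
# Two class sizes of elements of order prime to `p`: two bad primes are impossible

For an odd bad prime all commutators of a normalising element with `T_q` are central, as otherwise
some 2-element inverts two non-commuting lines and contradicts the fixed-point-free action on
another primary part.
-/

set_option autoImplicit false
set_option linter.style.haveILetI false

namespace CfsgLib.ClassSize.TwoReg

variable {G : Type*} [Group G] [Finite G] {p : ℕ}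

omit [Finite G] in
theorem mk_conj (g v : G) : ((g * v * g⁻¹ : G) : G ⧸ Subgroup.center G) =
    MulAut.conj (g : G ⧸ Subgroup.center G) v := by
  rw [MulAut.conj_apply]; rfl

omit [Finite G] in
theorem commute_mk {g v : G} (h : g * v * g⁻¹ * v⁻¹ ∈ Subgroup.center G) :
    Commute (g : G ⧸ Subgroup.center G) (v : G ⧸ Subgroup.center G) := by
  have e := (QuotientGroup.eq_one_iff _).mpr h
  rw [QuotientGroup.mk_mul, QuotientGroup.mk_inv, mk_conj, MulAut.conj_apply, mul_inv_eq_one] at e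
  exact mul_inv_eq_iff_eq_mul.mp e

omit [Finite G] in
theorem conj_eq_of_comm {g w c : G} (h : g * w * g⁻¹ * w⁻¹ = c) (hc : Commute c w) :
    w⁻¹ * g * w⁻¹⁻¹ = c * g := by
  have e : g * w * g⁻¹ = c * w := by rw [← h]; group
  have e2 : g * w = w * (c * g) := by
    rw [← mul_assoc, ← hc.eq, ← e]; group
  calc w⁻¹ * g * w⁻¹⁻¹ = w⁻¹ * (g * w) := by group
    _ = c * g := by rw [e2]; group

theorem mul_le_card {q : ℕ} (hq : q.Prime) {H K : Subgroup G} (hK : IsPGroup q K) (hlt : H < K) :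
    q * Nat.card H ≤ Nat.card K := by
  haveI : Fact q.Prime := ⟨hq⟩
  obtain ⟨a, ha⟩ := hK.exists_card_eq
  obtain ⟨b, hb⟩ := (hK.to_le hlt.le).exists_card_eq
  have hlt' : Nat.card H < Nat.card K := by
    refine lt_of_le_of_ne (Subgroup.card_le_of_le hlt.le) fun e => hlt.ne ?_
    exact Subgroup.eq_of_le_of_card_ge hlt.le e.ge
  rw [ha, hb] at hlt' ⊢
  rw [← pow_succ']
  exact Nat.pow_le_pow_right hq.pos ((Nat.pow_lt_pow_iff_right hq.one_lt).mp hlt')

omit [Finite G] in
theorem odd_power {s : G ⧸ Subgroup.center G} {u : G ⧸ Subgroup.center G}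
    (hs : MulAut.conj s u = u⁻¹) : ∀ m : ℕ, ¬ 2 ∣ m → MulAut.conj (s ^ m) u = u⁻¹ := by
  intro m hm
  obtain ⟨k, rfl⟩ : ∃ k, m = 2 * k + 1 := ⟨m / 2, by omega⟩
  induction k with
  | zero => simpa using hs
  | succ k ih =>
    have := ih (by omega)
    rw [show 2 * (k + 1) + 1 = (2 * k + 1) + 1 + 1 by ring, pow_succ, pow_succ, map_mul, map_mul,
      MulAut.mul_apply, MulAut.mul_apply, hs, map_inv, hs, inv_inv]
    exact this

namespace Two2

variable (h : Two2 G p)
include h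

/-- For an odd bad prime the commutators of a normalising element with `T_q` are central. -/
theorem comm_central {x g : G} (hx : Reg p x) (hx' : x ∉ Subgroup.center G) {q : ℕ}
    (hb : Bad G p q) (h2 : q ≠ 2) (hgq : IsQ q g) (hgn : Norm p x g) (hgT : g ∉ T p x) {v : G}
    (hv : v ∈ Tq x q) : g * v * g⁻¹ * v⁻¹ ∈ Subgroup.center G := by
  classical
  by_contra hne
  obtain ⟨hq, hqp, -⟩ := hb.1
  haveI : Fact q.Prime := ⟨hq⟩
  have hgr := hgq.reg h.hp hq hqp
  have hg' : g ∉ Subgroup.center G := fun e => hgT (h.center_le_T e hgr)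
  have hv' : v ∉ Subgroup.center G := fun e => hne (by
    rw [(mem_center.mp e g).symm.eq, mul_inv_cancel_right, mul_inv_cancel]
    exact one_mem _)
  obtain ⟨z, hz, hz', hcz, hex⟩ := h.exists_step hx hx' hb hgq hgn hgT hv hv'
  obtain ⟨u, hu, huz⟩ := hex hne
  have hzr : Reg p z := ((h.mem_Tq hx hx' hq hqp).mp hz).1.reg h.hp hq hqp
  obtain ⟨hgcen⟩ : Nonempty (g ^ q ∈ Subgroup.center G) :=
    ⟨(h.pow_mem_center hx hx' hb hgq hgn hgT).2⟩
  obtain ⟨hzq, hczq⟩ := h.conj_center_props hx hx' hb hgq hgn hgT hz hcz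
  -- the second pair
  have hgg : g ∈ T p g := (h.mem_T hgr hg').mpr ⟨hgr, Commute.refl g⟩
  have hgq' : g ∈ Tq g q := (h.mem_Tq hgr hg' hq hqp).mpr ⟨hgq, Commute.refl g⟩
  have hzn : Norm p g z := h.norm_of_one hgr hg' hgg hg' (by
    rw [show z * g * z⁻¹ = (g * z * g⁻¹ * z⁻¹)⁻¹ * g by group]
    refine mul_mem (inv_mem (h.center_le_T hcz ?_)) hgg
    exact IsQ.reg h.hp hq hqp ⟨1, by rwa [pow_one]⟩)
  have hzT : z ∉ T p g := fun e => hgT (h.mem_of_commute hx hx' (h.Tq_le_T hq hqp hz) hz' hgr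
    ((h.mem_T hgr hg').mp e).2.symm)
  have hzQ : IsQ q z := ((h.mem_Tq hx hx' hq hqp).mp hz).1
  have hcg : z * g * z⁻¹ * g⁻¹ ∈ Subgroup.center G := by
    rw [show z * g * z⁻¹ * g⁻¹ = (g * z * g⁻¹ * z⁻¹)⁻¹ by group]
    exact inv_mem hcz
  -- some commutator of the second pair is not central
  obtain ⟨y, hy, hyne⟩ : ∃ y ∈ Tq g q, z * y * z⁻¹ * y⁻¹ ∉ Subgroup.center G := by
    by_contra hcon
    push Not at hcon
    set A := Tq x q ⊓ Subgroup.center G
    have hA : ∀ a : G, IsQ q a → a ∈ Subgroup.center G → a ∈ A := fun a ha hac =>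
      ⟨(h.mem_Tq hx hx' hq hqp).mpr ⟨ha, mem_center.mp hac x⟩, hac⟩
    have hcard : Nat.card (Tq g q) ≤ q * Nat.card A := by
      have hsurj : ∀ w : Tq g q, ∃ a : Fin q × A, (a.2 : G) * (g ^ (a.1 : ℕ))⁻¹ = (w : G) := by
        intro w
        obtain ⟨i, hi⟩ := h.line hgr hg' hb hzQ hzn hzT hgq' w.2 hg' hcg (hcon w w.2)
        have hi' : (w : G) * g ^ (i % q) ∈ Subgroup.center G := by
          rw [← Nat.mod_add_div i q, pow_add, pow_mul, ← mul_assoc] at hi
          exact (Subgroup.mul_mem_cancel_right _ (pow_mem hgcen _)).mp hi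
        refine ⟨⟨⟨i % q, Nat.mod_lt _ hq.pos⟩, ⟨_, hA _ ?_ hi'⟩⟩, by simp⟩
        have := (h.mem_Tq hgr hg' hq hqp).mp (mul_mem w.2 (pow_mem hgq' (i % q)))
        exact this.1
      choose f hf using hsurj
      have := Nat.card_le_card_of_injective f fun a b e => Subtype.ext (by rw [← hf a, e, hf b])
      rwa [Nat.card_prod, Nat.card_fin] at this
    let M : Subgroup G :=
      { carrier := {w | w ∈ Tq x q ∧ g * w * g⁻¹ * w⁻¹ ∈ Subgroup.center G}
        one_mem' := ⟨one_mem _, by simp⟩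
        mul_mem' := fun {a b} ha hb' => ⟨mul_mem ha.1 hb'.1, by
          rw [show g * (a * b) * g⁻¹ * (a * b)⁻¹ =
            (g * a * g⁻¹) * (g * b * g⁻¹ * b⁻¹) * a⁻¹ by group,
            ← (mem_center.mp hb'.2 (g * a * g⁻¹)).eq, mul_assoc]
          exact mul_mem hb'.2 ha.2⟩
        inv_mem' := fun {a} ha => ⟨inv_mem ha.1, by
          have e := ha.2
          have e' := (mem_center.mp (inv_mem e) a⁻¹).eq
          rw [show g * a⁻¹ * g⁻¹ * a⁻¹⁻¹ = a⁻¹ * (g * a * g⁻¹ * a⁻¹)⁻¹ * a by group, ← e',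
            inv_mul_cancel_right]
          exact inv_mem e⟩ }
    have hAM : A < M := by
      refine lt_of_le_of_ne (fun a ha => ⟨ha.1, ?_⟩) fun e => ?_
      · rw [(mem_center.mp ha.2 g).symm.eq, mul_inv_cancel_right, mul_inv_cancel]
        exact one_mem _
      · have : z ∈ A := e ▸ (show z ∈ M from ⟨hz, hcz⟩)
        exact hz' this.2
    have hMT : M < Tq x q := lt_of_le_of_ne (fun a ha => ha.1) fun e => hne (e.symm ▸ hv : v ∈ M).2
    have hpg := h.isPGroup_Tq hx hx' hq hqp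
    have h1 := mul_le_card hq (hpg.to_le hMT.le) hAM
    have h2' := mul_le_card hq hpg hMT
    rw [h.card_Tq_eq hgr hg' hx hx' hq hqp] at hcard
    have hpos : 0 < Nat.card A := Nat.card_pos
    have : q * (q * Nat.card A) ≤ q * Nat.card A :=
      (Nat.mul_le_mul_left q h1).trans (h2'.trans hcard)
    exact absurd this (not_le.mpr (lt_mul_of_one_lt_left (Nat.mul_pos hq.pos hpos) hq.one_lt))
  have hy' : y ∉ Subgroup.center G := fun e => hyne (by
    rw [(mem_center.mp e z).symm.eq, mul_inv_cancel_right, mul_inv_cancel]; exact one_mem _)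
  obtain ⟨g', hg'T, hg'c, hcg', hex'⟩ := h.exists_step hgr hg' hb hzQ hzn hzT hy hy'
  obtain ⟨w, hw, hwg⟩ := hex' hyne
  obtain ⟨j, hj⟩ := h.line hgr hg' hb hzQ hzn hzT hg'T (inv_mem hgq') hg'c hcg' (by
    rw [show z * g⁻¹ * z⁻¹ * g⁻¹⁻¹ = g⁻¹ * (z * g * z⁻¹ * g⁻¹)⁻¹ * g by group,
      ← (mem_center.mp (inv_mem hcg) g⁻¹).eq, inv_mul_cancel_right]
    exact inv_mem hcg)
  -- computations in the quotient by the centre
  let π := QuotientGroup.mk' (Subgroup.center G)
  have hcomm : Commute (π g) (π z) := commute_mk hcz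
  have hγq : π g ^ q = 1 := by
    rw [← map_pow]; exact (QuotientGroup.eq_one_iff _).mpr hgcen
  have hζq : π z ^ q = 1 := by
    rw [← map_pow]; exact (QuotientGroup.eq_one_iff _).mpr hzq
  have hγ' : π g = π g' ^ j := by
    have := (QuotientGroup.eq_one_iff _).mpr hj
    rw [QuotientGroup.mk_mul, QuotientGroup.mk_inv, QuotientGroup.mk_pow, inv_mul_eq_one] at this
    exact this
  set n := j * (q - 1)
  have hn : π g' ^ n = (π g)⁻¹ := by
    refine eq_inv_of_mul_eq_one_left ?_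
    rw [pow_mul, ← hγ', ← pow_succ, Nat.sub_add_cancel hq.pos, hγq]
  have hzu : Commute z u := h.commute_T hx hx' (h.Tq_le_T hq hqp hz) (h.Tq_le_T hq hqp hu)
  have hgw : Commute g' w := h.commute_T hgr hg' (h.Tq_le_T hq hqp hg'T) (h.Tq_le_T hq hqp hw)
  let c1 := MulAut.conj (π u⁻¹)
  let c2 := MulAut.conj (π (w⁻¹ ^ n))
  have hc1g : c1 (π g) = π z * π g := by
    simp only [c1, MulAut.conj_apply]
    rw [← map_inv π, ← map_mul, ← map_mul, conj_eq_of_comm huz hzu, map_mul]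
  have hc1z : c1 (π z) = π z := by
    simp only [c1, MulAut.conj_apply]
    rw [← map_inv π, ← map_mul, ← map_mul, hzu.symm.inv_left.eq, mul_inv_cancel_right]
  have hc2g : c2 (π g) = π g := by
    simp only [c2, MulAut.conj_apply]
    rw [← map_inv π, ← map_mul, ← map_mul, (((h.mem_Tq hgr hg' hq hqp).mp hw).2.inv_left.pow_left n).eq,
      mul_inv_cancel_right]
  have hw1 : MulAut.conj (π w⁻¹) (π z) = π g' * π z := by
    rw [MulAut.conj_apply, ← map_inv π, ← map_mul, ← map_mul, conj_eq_of_comm hwg hgw, map_mul]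
  have hc2z : c2 (π z) = (π g)⁻¹ * π z := by
    have key : ∀ i : ℕ, MulAut.conj (π (w⁻¹ ^ i)) (π z) = π g' ^ i * π z := fun i => by
      induction i with
      | zero => simp
      | succ i ih =>
        rw [pow_succ' w⁻¹, map_mul, map_mul, MulAut.mul_apply, ih, map_mul, hw1, map_pow]
        have : MulAut.conj (π w⁻¹) (π g') = π g' := by
          rw [MulAut.conj_apply, ← map_inv π, ← map_mul, ← map_mul, hgw.symm.inv_left.eq,
            mul_inv_cancel_right]
        rw [this, ← mul_assoc, ← pow_succ]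
    exact (key n).trans (by rw [hn])
  set h0 : G := u⁻¹ * w⁻¹ ^ n * u⁻¹ with hh0
  have hc0 : ∀ a, MulAut.conj (π h0) a = c1 (c2 (c1 a)) := fun a => by
    simp only [c1, c2, hh0, map_mul, MulAut.mul_apply]
  have hHz : MulAut.conj (π h0) (π z) = (π g)⁻¹ := by
    rw [hc0, hc1z, hc2z, map_mul, map_inv, hc1g, hc1z, mul_inv_rev, inv_mul_cancel_right]
  have hHg : MulAut.conj (π h0) (π g) = π z := by
    rw [hc0, hc1g, map_mul, hc2z, hc2g, show (π g)⁻¹ * π z * π g = π z by rw [mul_assoc, ← hcomm.eq, inv_mul_cancel_left]]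
    exact hc1z
  obtain ⟨a, m, hm, ho⟩ := Nat.exists_eq_pow_mul_and_not_dvd (orderOf_pos (h0 * h0)).ne' 2 (by norm_num)
  set s := (h0 * h0) ^ m with hs
  have hs2 : s ^ 2 ^ a = 1 := by
    rw [hs, ← pow_mul, mul_comm, ← ho, pow_orderOf_eq_one]
  have hsz : MulAut.conj (π s) (π z) = (π z)⁻¹ := by
    rw [hs, map_pow π]
    refine odd_power ?_ m hm
    rw [map_mul, map_mul, MulAut.mul_apply, hHz, map_inv, hHg]
  have hsg : MulAut.conj (π s) (π g) = (π g)⁻¹ := by
    rw [hs, map_pow π]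
    refine odd_power ?_ m hm
    rw [map_mul, map_mul, MulAut.mul_apply, hHg, hHz]
  have hzT' : z ∈ T p x := h.Tq_le_T hq hqp hz
  have hsn : Norm p x s := by
    refine h.norm_of_one hx hx' hzT' hz' (h.mem_of_commute hx hx' hzT' hz' ?_ ?_)
    · exact (((h.mem_Tq hx hx' hq hqp).mp hz).1.conj s).reg h.hp hq hqp
    · have e : s * z * s⁻¹ * z ∈ Subgroup.center G := by
        rw [← QuotientGroup.eq_one_iff, QuotientGroup.mk_mul, mk_conj]
        exact mul_eq_one_iff_eq_inv.mpr hsz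
      rw [show s * z * s⁻¹ = (s * z * s⁻¹ * z) * z⁻¹ by group]
      exact (mem_center.mp e z).mul_left (Commute.refl z).inv_left
  have hs2z : Commute (s ^ 2) z := by
    set c := s ^ 2 * z * (s ^ 2)⁻¹ * z⁻¹
    have hc : c ∈ Subgroup.center G := by
      rw [← QuotientGroup.eq_one_iff, QuotientGroup.mk_mul, mk_conj, QuotientGroup.mk_inv,
        mul_inv_eq_one]
      show MulAut.conj (π (s ^ 2)) (π z) = π z
      rw [pow_two, map_mul, map_mul, MulAut.mul_apply, hsz, map_inv, hsz, inv_inv]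
    have he : s ^ 2 * z * (s ^ 2)⁻¹ = c * z := by simp only [c]; group
    refine commute_of_conj_eq he (eq_one_of_coprime (a := q) (b := 2 ^ a)
      (pow_eq_one_of_center' hc he hzq) (pow_eq_one_of_center hc he ?_) ?_)
    · rw [← pow_mul, mul_comm, pow_mul, hs2, one_pow]; exact Commute.one_left z
    · exact Nat.Coprime.pow_right a ((Nat.coprime_primes hq Nat.prime_two).mpr h2)
  obtain ⟨r, hr, hrq⟩ := h.other q
  have hinvV : ∀ t ∈ Tq x r, MulAut.conj (π s) (π t) = (π t)⁻¹ := by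
    intro t ht
    have htT := h.Tq_le_T hr.1 hr.2.1 ht
    have hst : Commute (s ^ 2) t := h.commute_of_commute hx hx' hzT' hz' htT hs2z
    set y := t * (s * t * s⁻¹)
    have hyT : y ∈ T p x := mul_mem htT (hsn t htT)
    have hsy : Commute s y := by
      refine mul_inv_eq_iff_eq_mul.mp ?_
      calc s * y * s⁻¹ = (s * t * s⁻¹) * (s ^ 2 * t * (s ^ 2)⁻¹) := by simp only [y]; group
        _ = y := by
          rw [hst.eq, mul_inv_cancel_right]
          exact (h.commute_T hx hx' (hsn t htT) htT).eq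
    by_contra hne'
    have hyc : y ∉ Subgroup.center G := fun e => hne' (by
      have e' := (QuotientGroup.eq_one_iff _).mpr e
      rw [QuotientGroup.mk_mul, mk_conj] at e'
      exact eq_inv_of_mul_eq_one_right e')
    have hsz' : Commute s z := h.commute_of_commute hx hx' hyT hyc hzT' hsy
    have hz2 : π z ^ 2 = 1 := by
      rw [pow_two]
      nth_rewrite 1 [show π z = MulAut.conj (π s) (π z) by
        rw [MulAut.conj_apply, ← map_inv π, ← map_mul, ← map_mul, hsz'.eq, mul_inv_cancel_right]]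
      rw [hsz, inv_mul_cancel]
    exact hz' ((QuotientGroup.eq_one_iff z).mp
      (eq_one_of_coprime hζq hz2 ((Nat.coprime_primes hq Nat.prime_two).mpr h2)))
  obtain ⟨t, ht, ht'⟩ := h.exists_mem_Tq hx hx' hr
  have e2 : π g ^ 2 * π t = π t * π g ^ 2 := by
    have hgt := hinvV _ (h.norm_Tq hx hx' hr.1 hr.2.1 hgn ht)
    rw [map_mul, map_mul, map_mul, map_mul, hsg, hinvV t ht, map_inv, map_inv, hsg, inv_inv,
      mul_inv_rev, mul_inv_rev, inv_inv] at hgt
    have e3 : π g * π t * (π g)⁻¹ = (π g)⁻¹ * π t * π g := by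
      rw [← inv_inj]; simpa only [mul_inv_rev, inv_inv, mul_assoc] using hgt.symm
    calc π g ^ 2 * π t = π g * (π g * π t * (π g)⁻¹) * π g := by rw [pow_two]; group
      _ = π g * ((π g)⁻¹ * π t * π g) * π g := by rw [e3]
      _ = π t * π g ^ 2 := by rw [pow_two]; group
  have hgt : Commute (π g) (π t) := by
    obtain ⟨m, hm⟩ := exists_pow_eq_self_of_coprime (x := π g) (n := 2)
      (Nat.Coprime.coprime_dvd_right (orderOf_dvd_of_pow_eq_one hγq)
        ((Nat.coprime_primes Nat.prime_two hq).mpr h2.symm))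
    exact hm ▸ (show Commute (π g ^ 2) (π t) from e2).pow_left m
  have hc : g * t * g⁻¹ * t⁻¹ ∈ Subgroup.center G := by
    rw [← QuotientGroup.eq_one_iff, QuotientGroup.mk_mul, mk_conj, MulAut.conj_apply,
      QuotientGroup.mk_inv]
    show π g * π t * (π g)⁻¹ * (π t)⁻¹ = 1
    rw [hgt.eq, mul_inv_cancel_right, mul_inv_cancel]
  obtain ⟨k, hk⟩ := ((h.mem_Tq hx hx' hr.1 hr.2.1).mp ht).1
  have hcm := commute_of_conj_eq (g := g) (u := t) (c := g * t * g⁻¹ * t⁻¹) (by group)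
    (eq_one_of_coprime (a := q) (b := r ^ k)
      (pow_eq_one_of_center (g := g) (u := t) hc (by group) (mem_center.mp hgcen t))
      (pow_eq_one_of_center' (g := g) (u := t) hc (by group) (by rw [hk]; exact one_mem _))
      (Nat.Coprime.pow_right k ((Nat.coprime_primes hq hr.1).mpr hrq.symm)))
  exact hgT (h.mem_of_commute hx hx' (h.Tq_le_T hr.1 hr.2.1 ht) ht' hgr hcm)

/-- If `2` is bad it is the only bad prime. -/
theorem two_unique (hb : Bad G p 2) {r : ℕ} (hbr : Bad G p r) (hr2 : r ≠ 2) : False := by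
  obtain ⟨h2p, hne2, w0, hw0, hw0'⟩ := hb.1
  have hwr := hw0.reg h.hp h2p hne2
  obtain ⟨hr, hrp, -⟩ := hbr.1
  obtain ⟨g, hgq, hgn, hgT⟩ := h.exists_normalizing hwr hw0' hb
  obtain ⟨b, hbq, hbn, hbT⟩ := h.exists_normalizing hwr hw0' hbr
  obtain ⟨hW, hgcen⟩ := h.pow_mem_center hwr hw0' hb hgq hgn hgT
  have key : ∀ v ∈ Tq w0 2, v * (g * v * g⁻¹) ∈ Subgroup.center G := fun v hv => by
    have hvT := h.Tq_le_T h2p hne2 hv
    have h1 : v * g ∈ Tq w0 2 ⊔ Subgroup.zpowers g :=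
      mul_mem (Subgroup.mem_sup_left hv) (Subgroup.mem_sup_right (Subgroup.mem_zpowers g))
    have h3 : v * g ∉ T p w0 := fun e => hgT (by simpa using mul_mem (inv_mem hvT) e)
    have h4 := (h.pow_mem_center hwr hw0' hb (IsQ.of_mem hW h1) ((h.norm_of_mem hvT).mul hgn) h3).2
    rw [show v * (g * v * g⁻¹) = (v * g) ^ 2 * (g ^ 2)⁻¹ by rw [pow_two, pow_two]; group]
    exact mul_mem h4 (inv_mem hgcen)
  obtain ⟨z0, hz0, hz0'⟩ := h.exists_mem_Tq hwr hw0' hb.1
  obtain ⟨z, hz, hz', hcz, -⟩ := h.exists_step hwr hw0' hb hgq hgn hgT hz0 hz0'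
  obtain ⟨hz2, -⟩ := h.conj_center_props hwr hw0' hb hgq hgn hgT hz hcz
  set w := b * z * b⁻¹ with hw
  have hwT : w ∈ Tq w0 2 := h.norm_Tq hwr hw0' h2p hne2 hbn hz
  have hw2 : w ^ 2 ∈ Subgroup.center G := by
    rw [hw, conj_pow]
    exact (inferInstance : (Subgroup.center G).Normal).conj_mem _ hz2 b
  have hcw : g * w * g⁻¹ * w⁻¹ ∈ Subgroup.center G := by
    rw [show g * w * g⁻¹ * w⁻¹ = w⁻¹ * (w * (g * w * g⁻¹)) * w * (w ^ 2)⁻¹ by group]
    refine mul_mem ?_ (inv_mem hw2)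
    have e := (inferInstance : (Subgroup.center G).Normal).conj_mem _ (key w hwT) w⁻¹
    rwa [inv_inv] at e
  obtain ⟨i, hi⟩ := h.line hwr hw0' hb hgq hgn hgT hz hwT hz' hcz hcw
  set c := w * z⁻¹ with hc
  have hcc : c ∈ Subgroup.center G := by
    rcases Nat.even_or_odd' i with ⟨k, rfl | rfl⟩
    · exfalso
      rw [pow_mul] at hi
      have := (Subgroup.mul_mem_cancel_right _ (pow_mem hz2 k)).mp hi
      refine hz' ?_
      have e := (inferInstance : (Subgroup.center G).Normal).conj_mem _ this b⁻¹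
      simpa [hw, mul_assoc] using e
    · rw [show c = w * z ^ (2 * k + 1) * ((z ^ 2) ^ (k + 1))⁻¹ by
        rw [hc, ← pow_mul, show 2 * (k + 1) = 2 * k + 1 + 1 by ring, pow_succ z (2 * k + 1)]; group]
      exact mul_mem hi (inv_mem (pow_mem hz2 _))
  have he : b * z * b⁻¹ = c * z := by rw [hc, hw]; group
  have hbr' := (h.pow_mem_center hwr hw0' hbr hbq hbn hbT).2
  have hc1 : c = 1 := eq_one_of_coprime (pow_eq_one_of_center' hcc he hz2)
    (pow_eq_one_of_center hcc he (mem_center.mp hbr' z))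
    ((Nat.coprime_primes Nat.prime_two hr).mpr hr2.symm)
  exact hbT (h.mem_of_commute hwr hw0' (h.Tq_le_T h2p hne2 hz) hz' (hbq.reg h.hp hr hrp)
    (commute_of_conj_eq he hc1))

theorem dvd_pred {q r : ℕ} (hbq : Bad G p q) (hbr : Bad G p r) (hqr : q ≠ r) (hr2 : r ≠ 2) :
    q ∣ r - 1 := by
  obtain ⟨hq, hqp, w0, hw0, hw0'⟩ := hbq.1
  have hwr := hw0.reg h.hp hq hqp
  obtain ⟨hr, hrp, -⟩ := hbr.1
  haveI : Fact r.Prime := ⟨hr⟩
  haveI : Fact q.Prime := ⟨hq⟩
  obtain ⟨g, hgq, hgn, hgT⟩ := h.exists_normalizing hwr hw0' hbq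
  obtain ⟨b, hbq', hbn, hbT⟩ := h.exists_normalizing hwr hw0' hbr
  obtain ⟨z, hz, hz'⟩ := h.exists_mem_Tq hwr hw0' hbr.1
  have hM : ∀ v ∈ Tq w0 r, b * v * b⁻¹ * v⁻¹ ∈ Subgroup.center G := fun v hv =>
    h.comm_central hwr hw0' hbr hr2 hbq' hbn hbT hv
  obtain ⟨hzr, -⟩ := h.conj_center_props hwr hw0' hbr hbq' hbn hbT hz (hM z hz)
  have hw := h.norm_Tq hwr hw0' hr hrp hgn hz
  obtain ⟨i, hi⟩ := h.line hwr hw0' hbr hbq' hbn hbT hz hw hz' (hM z hz) (hM _ hw)
  let π := QuotientGroup.mk' (Subgroup.center G)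
  set j := (r - 1) * i
  have hzr' : π z ^ r = 1 := by rw [← map_pow]; exact (QuotientGroup.eq_one_iff _).mpr hzr
  have hord : orderOf (π z) = r := orderOf_eq_prime hzr' fun e => hz' ((QuotientGroup.eq_one_iff z).mp e)
  have hconj : MulAut.conj (π g) (π z) = π z ^ j := by
    have e : π (g * z * g⁻¹) * π z ^ i = 1 := by
      rw [← map_pow, ← map_mul]; exact (QuotientGroup.eq_one_iff _).mpr hi
    rw [MulAut.conj_apply, ← map_inv π, ← map_mul, ← map_mul, eq_inv_of_mul_eq_one_left e]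
    refine inv_eq_of_mul_eq_one_right ?_
    have e2 : i + j = r * i := by
      show i + (r - 1) * i = r * i
      obtain ⟨r', hr'⟩ : ∃ r', r = r' + 1 := ⟨r - 1, by have := hr.pos; omega⟩
      rw [hr', Nat.add_sub_cancel]; ring
    rw [← pow_add, e2, pow_mul, hzr', one_pow]
  have hiter : ∀ n : ℕ, MulAut.conj (π g ^ n) (π z) = π z ^ j ^ n := fun n => by
    induction n with
    | zero => simp
    | succ n ih => rw [pow_succ', map_mul, MulAut.mul_apply, ih, map_pow (MulAut.conj (π g)), hconj,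
        ← pow_mul, ← pow_succ']
  have hgc := (h.pow_mem_center hwr hw0' hbq hgq hgn hgT).2
  have hjq : j ^ q ≡ 1 [MOD r] := by
    rw [← hord, ← pow_eq_pow_iff_modEq, ← hiter q, pow_one, ← map_pow π,
      show π (g ^ q) = 1 from (QuotientGroup.eq_one_iff _).mpr hgc, map_one, MulAut.one_apply]
  have hj1 : ¬ j ≡ 1 [MOD r] := fun e => by
    have e1 : MulAut.conj (π g) (π z) = π z := by
      rw [hconj, pow_eq_pow_iff_modEq.mpr (hord ▸ e : j ≡ 1 [MOD orderOf (π z)]), pow_one]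
    have hc : g * z * g⁻¹ * z⁻¹ ∈ Subgroup.center G := by
      rw [← QuotientGroup.eq_one_iff, QuotientGroup.mk_mul, mk_conj, QuotientGroup.mk_inv,
        mul_inv_eq_one]
      exact e1
    refine hgT (h.mem_of_commute hwr hw0' (h.Tq_le_T hr hrp hz) hz' (hgq.reg h.hp hq hqp) ?_)
    exact commute_of_conj_eq (c := g * z * g⁻¹ * z⁻¹) (by group) (eq_one_of_coprime (a := q) (b := r)
      (pow_eq_one_of_center (g := g) (u := z) hc (by group) (mem_center.mp hgc z))
      (pow_eq_one_of_center' (g := g) (u := z) hc (by group) hzr) ((Nat.coprime_primes hq hr).mpr hqr))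
  have ha : (j : ZMod r) ^ q = 1 := by
    rw [← Nat.cast_pow, ← Nat.cast_one, ZMod.natCast_eq_natCast_iff]; exact hjq
  have ha1 : (j : ZMod r) ≠ 1 := fun e => hj1 ((ZMod.natCast_eq_natCast_iff _ _ _).mp (by
    rw [Nat.cast_one]; exact e))
  rw [← orderOf_eq_prime ha ha1]
  refine ZMod.orderOf_dvd_card_sub_one fun e => ?_
  rw [e, zero_pow hq.ne_zero] at ha
  exact zero_ne_one ha

/-- There is at most one bad prime. -/
theorem bad_unique {q r : ℕ} (hbq : Bad G p q) (hbr : Bad G p r) : q = r := by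
  by_contra hne
  by_cases hq2 : q = 2
  · subst hq2; exact h.two_unique hbq hbr fun e => hne e.symm
  by_cases hr2 : r = 2
  · subst hr2; exact h.two_unique hbr hbq hne
  have h1 := Nat.le_of_dvd (by have := hbr.1.1.two_le; omega) (h.dvd_pred hbq hbr hne hr2)
  have h3 := Nat.le_of_dvd (by have := hbq.1.1.two_le; omega) (h.dvd_pred hbr hbq (Ne.symm hne) hq2)
  have := hbq.1.1.two_le
  omega

end Two2

end CfsgLib.ClassSize.TwoReg
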